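import Mathlib
import Cfsg.Agent.Lib.Helper44.SMStmt
import Cfsg.Agent.Lib.Helper44.OConj
import Cfsg.Agent.Lib.Helper44.Spinor
import Cfsg.Agent.Lib.Helper44.Omega2
import Cfsg.Agent.Lib.Helper44.Parity
import Cfsg.Agent.Lib.Helper45.OmegaAutIdx

set_option autoImplicit false

/-! Piece statements for the SPIN sub-call of S2720: an isometry `s` of odd order prime to the
characteristic of an even-dimensional nondegenerate quadratic space over a finite field of odd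
characteristic commutes with an element of `SO(Q)` that is NOT in `Ω(Q)`.

Notation (landed libraries):
* `O Q : Subgroup (V ≃ₗ[F] V)`, `reflE Q v`, `refl Q v : O Q` (`Helper44.OGroup`);
* `Sep Q` (nondegenerate polar form), `res Q W` (restriction to a submodule) (`Helper44.QSpace`);
* `fixS g` the fixed space (`Helper44.Parity`), `CDP`, `cdp_of_two_ne_zero` (`Helper44.Omega2`);
* `signChar Q : O Q →* ℤˣ` the sign of the action on `{x // Q x = 1}`, `detHom`, `detHom_prod`,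
  `mem_commutator_iff` (`Helper44.Spinor`);
* `st hβ φ` the adjoint of `φ : Module.End F V` for the polar form (`Helper44.OConj`);
* `norm_surj`, `hilbert90` (`Helper40.NormSurj`), `star_core` (`Helper40.StarCore`). -/

namespace Cfsg.Agent.Lib.Helper43.SPStmt

open Module QuadraticMap
open Cfsg.Agent.Lib.Helper44.QSpace Cfsg.Agent.Lib.Helper44.OGroup
open Cfsg.Agent.Lib.Helper44.Parity Cfsg.Agent.Lib.Helper44.Spinor
open Cfsg.Agent.Lib.Helper44.OConj

universe u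

/-- The cyclic `s`-submodule generated by `w`: the span of the `s ^ i w`. -/
def cyc {F : Type u} [Field F] {V : Type u} [AddCommGroup V] [Module F V] (s : V ≃ₗ[F] V)
    (w : V) : Submodule F V :=
  Submodule.span F (Set.range fun i : ℕ => (s ^ i) w)

/-- Generators of the commutative ring `F[s, s⁻¹]` of endomorphisms. -/
def S0 {F : Type u} [Field F] {V : Type u} [AddCommGroup V] [Module F V]
    (A A' : Module.End F V) : Set (Module.End F V) :=
  {A, A'} ∪ Set.range (algebraMap F (Module.End F V))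

/-- The hypotheses of the irreducible case: `s` is an isometry of odd order `r` prime to the
characteristic, without nonzero fixed vectors, and the space is generated as an `s`-module by
each of its nonsingular vectors (and has one). -/
def IrrHyp {F : Type u} [Field F] {U : Type u} [AddCommGroup U] [Module F U]
    (Q : QuadraticForm F U) (s : U ≃ₗ[F] U) (r : ℕ) : Prop :=
  s ∈ O Q ∧ Odd r ∧ (r : F) ≠ 0 ∧ s ^ r = 1 ∧ (∀ v : U, s v = v → v = 0) ∧ (∃ w : U, Q w ≠ 0) ∧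
    (∀ w' : U, Q w' ≠ 0 → cyc s w' = ⊤)

/-- [TORUS] (pure finite ring theory).  `E` a finite ring with an anti-involution `st`, `S₀` a
commuting `st`-stable set, `R := Subring.closure S₀`.  If every `st`-fixed element of `R` is `0`
or a unit, `2` is a unit, and some `θ ∈ R` has `θ - st θ` a unit, then the "torus"
`N := {t ∈ R | st t * t = 1}` contains `g = c * (st c)⁻¹` with `g ^ (2 ^ a) = -1` and
`|N| / 2 ^ (a + 1)` odd.
Sketch: work in the finite commutative ring `R` with the ring involution `σ := st` (as in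
`Helper40.StarCore.star_core`); units of `E` lying in `R` are units of `R` (finiteness).
`N` is a finite abelian group containing `-1 ≠ 1`.  UNIQUE INVOLUTION: `t ∈ N`, `t² = 1` gives
`σ t = t`, `e := (1 + t)/2` is a `σ`-fixed idempotent, so `e = 0` (`t = -1`) or `e` is a unit,
hence `e = 1` (`t = 1`).  An abelian group with a unique involution has a cyclic Sylow 2-subgroup:
take `g ∈ N` of maximal 2-power order `2 ^ (a + 1)`; every 2-element `h` of order `2 ^ b` lies in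
`⟨g⟩` (induction on `b`: `h ^ (2 ^ (b-1)) = -1 = g ^ (2 ^ a)`, so
`h * g ^ (-(2 ^ (a+1-b)))` has order dividing `2 ^ (b-1)`); so the 2-part of `|N|` is `2 ^ (a+1)`.
`g ^ (2 ^ a)` is an involution, hence `-1`.  `c`: `Helper40.NormSurj.hilbert90`. -/
def Torus : Prop := ∀ (E : Type u) [Ring E] [Finite E] (st : E → E),
  (∀ x y, st (x + y) = st x + st y) → (∀ x y, st (x * y) = st y * st x) → st 1 = 1 →
  (∀ x, st (st x) = x) →
  ∀ (S₀ : Set E), (∀ x ∈ S₀, ∀ y ∈ S₀, x * y = y * x) → (∀ x ∈ S₀, st x ∈ S₀) →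
  (∀ b ∈ Subring.closure S₀, st b = b → b = 0 ∨ IsUnit b) →
  IsUnit (2 : E) → (1 : E) ≠ 0 →
  (∃ θ ∈ Subring.closure S₀, IsUnit (θ - st θ)) →
  ∃ g ∈ Subring.closure S₀, ∃ c ∈ Subring.closure S₀, IsUnit c ∧ g * st c = c ∧ st g * g = 1 ∧
    ∃ a : ℕ, g ^ (2 ^ a) = -1 ∧
      2 ^ (a + 1) ∣ Nat.card {t : E // t ∈ Subring.closure S₀ ∧ st t * t = 1} ∧
      Odd (Nat.card {t : E // t ∈ Subring.closure S₀ ∧ st t * t = 1} / 2 ^ (a + 1))

/-- [RING] In the irreducible case the ring `R = F[s, s⁻¹] ⊆ End(U)` is commutative, stable under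
the adjoint `st`, `st s = s⁻¹`, every self-adjoint element of `R` is `0` or invertible, and
`s - s⁻¹` is invertible.
Sketch: `st s = s⁻¹` by `st_unique` (isometry).  `R` is reduced: `s` is a semisimple endomorphism
(`Module.End.isSemisimple_of_squarefree_aeval_eq_zero` with `X ^ r - 1`, separable as `(r:F) ≠ 0`),
every element of `R` is a polynomial in `s` (as `s⁻¹ = s ^ (r-1)`), hence semisimple, and a
nilpotent semisimple endomorphism is `0`.  DICHOTOMY: `b ∈ R`, `st b = b`, `b ≠ 0`: `b * b ≠ 0`,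
so `polar (b x) (b y) = polar x (b (b y)) ≠ 0` for some `x y`, so some `z = b x'` has `Q z ≠ 0`
(polarisation, `2 ≠ 0`); `cyc s z = ⊤` and `cyc s z ≤ range b` (`b` commutes with `s`), so `b` is
surjective, hence a unit.  `s - s⁻¹`: `(s - s⁻¹)²` is self-adjoint; if it is `0` then `s = s⁻¹`,
`s² = 1`, `s = 1` (`r` odd), contradicting "no fixed vectors" (`U ≠ 0`); so it is a unit. -/
def RingP : Prop := ∀ (F : Type u) [Field F] [Fintype F] (U : Type u) [AddCommGroup U]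
  [Module F U] [FiniteDimensional F U] (Q : QuadraticForm F U) (_h2 : (2 : F) ≠ 0) (hS : Sep Q)
  (s : U ≃ₗ[F] U) (r : ℕ), IrrHyp Q s r →
  st (nondegenerate_of_sep hS) (s : U →ₗ[F] U) = (s.symm : U →ₗ[F] U) ∧
  (∀ x ∈ S0 (s : U →ₗ[F] U) (s.symm : U →ₗ[F] U), ∀ y ∈ S0 (s : U →ₗ[F] U) (s.symm : U →ₗ[F] U),
    x * y = y * x) ∧
  (∀ x ∈ S0 (s : U →ₗ[F] U) (s.symm : U →ₗ[F] U),
    st (nondegenerate_of_sep hS) x ∈ S0 (s : U →ₗ[F] U) (s.symm : U →ₗ[F] U)) ∧
  (∀ b ∈ Subring.closure (S0 (s : U →ₗ[F] U) (s.symm : U →ₗ[F] U)),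
    st (nondegenerate_of_sep hS) b = b → b = 0 ∨ IsUnit b) ∧
  IsUnit ((s : U →ₗ[F] U) - (s.symm : U →ₗ[F] U) : Module.End F U)

/-- [COUNT] In the irreducible case the number of vectors with `Q x = 1` is an ODD multiple of the
order of the torus `N = {t ∈ R | st t * t = 1}`.
Sketch: fix `w₀` with `Q w₀ ≠ 0`.  `R → U`, `a ↦ a w₀` is bijective (onto: `cyc s w₀ = ⊤`;
injective: `a w₀ = 0 ⇒ a (b w₀) = 0` for all `b ∈ R`).  `Q (a w₀) = τ (st a * a)` with
`τ y := 2⁻¹ * polar (y w₀) w₀`, an `F`-linear functional on the self-adjoint part `R₀` of `R`,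
`τ 1 = Q w₀ ≠ 0`.  Every `y ∈ R₀` with `τ y = 1` is nonzero, hence a unit (`RingP`), hence
`y = st c * c` with `c ∈ R` (`Helper40.StarCore.star_core` with `e = 1`, `θ = s`,
`y := (s - s⁻¹)⁻¹ ∈ R`; or `Helper40.NormSurj.norm_surj`), and `{a ∈ R | st a * a = y} = c • N`.
So `|{Q = 1}| = |N| * |{y ∈ R₀ | τ y = 1}|`, and the last set is a coset of `ker τ ∩ R₀`, an
`F`-vector space, of odd cardinality (`|F|` is odd). -/
def CountP : Prop := ∀ (F : Type u) [Field F] [Fintype F] (U : Type u) [AddCommGroup U]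
  [Module F U] [FiniteDimensional F U] (Q : QuadraticForm F U) (_h2 : (2 : F) ≠ 0) (hS : Sep Q)
  (s : U ≃ₗ[F] U) (r : ℕ), IrrHyp Q s r →
  ∃ M : ℕ, Odd M ∧ Nat.card {x : U // Q x = 1}
    = Nat.card {t : Module.End F U // t ∈ Subring.closure (S0 (s : U →ₗ[F] U) (s.symm : U →ₗ[F] U))
        ∧ st (nondegenerate_of_sep hS) t * t = 1} * M

/-- [SIGN] A permutation `π` with `π ^ (2 ^ (a+1)) = 1` such that `π ^ (2 ^ a)` has no fixed
point, on a set of cardinality an odd multiple of `2 ^ (a+1)`, is odd.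
Sketch: every cycle has length exactly `2 ^ (a+1)` (a shorter orbit has length dividing `2 ^ a`),
so `cycleType π = replicate (card / 2 ^ (a+1)) (2 ^ (a+1))` and `Equiv.Perm.sign_of_cycleType`. -/
def SignP : Prop := ∀ (X : Type u) [Fintype X] [DecidableEq X] (π : Equiv.Perm X) (a : ℕ),
  π ^ (2 ^ (a + 1)) = 1 → (∀ x, (π ^ (2 ^ a)) x ≠ x) → 2 ^ (a + 1) ∣ Fintype.card X →
  Odd (Fintype.card X / 2 ^ (a + 1)) → Equiv.Perm.sign π = -1

/-- [DETADJ] The adjoint has the same determinant.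
Sketch: in a basis, `toMatrix (st φ) = G⁻¹ * (toMatrix φ)ᵀ * G` with `G` the Gram matrix
(`LinearMap.BilinForm.toMatrix`, invertible by nondegeneracy); `LinearMap.det_toMatrix`. -/
def DetAdj : Prop := ∀ (F : Type u) [Field F] (U : Type u) [AddCommGroup U] [Module F U]
  [FiniteDimensional F U] (Q : QuadraticForm F U) (hβ : (polarBilin Q).Nondegenerate)
  (φ : Module.End F U), LinearMap.det (st hβ φ) = LinearMap.det φ

/-- [IRR] The irreducible case: an isometry commuting with `s`, of determinant `1`, acting as an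
odd permutation on `{x // Q x = 1}`. -/
def Irr : Prop := ∀ (F : Type u) [Field F] [Fintype F] (U : Type u) [AddCommGroup U]
  [Module F U] [FiniteDimensional F U] (Q : QuadraticForm F U), (2 : F) ≠ 0 → Sep Q →
  ∀ (s : U ≃ₗ[F] U) (r : ℕ), IrrHyp Q s r →
  ∃ g : ↥(O Q), (g : U ≃ₗ[F] U) * s = s * (g : U ≃ₗ[F] U) ∧
    LinearEquiv.det (g : U ≃ₗ[F] U) = 1 ∧ signChar Q g = -1

/-- The conclusion in "reflection list" form: an even number of reflections whose product commutes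
with `s` and whose `Q`-values have non-square product. -/
def SpinList {F : Type u} [Field F] {V : Type u} [AddCommGroup V] [Module F V]
    (Q : QuadraticForm F V) (s : V ≃ₗ[F] V) : Prop :=
  ∃ vs : List V, (∀ v ∈ vs, Q v ≠ 0) ∧ Even vs.length ∧
    ¬ IsSquare (vs.map (fun v => Q v)).prod ∧
    (vs.map (reflE Q)).prod * s = s * (vs.map (reflE Q)).prod

/-- [MINSUB] A nonsingular vector `w` whose cyclic submodule `cyc s w` is nondegenerate and
generated by each of its nonsingular vectors.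
Sketch: choose `w` with `Q w ≠ 0` and `finrank (cyc s w)` minimal.  (A) for `w' ∈ cyc s w`
nonsingular, `cyc s w' ≤ cyc s w` (`cyc s w` is `s`-stable) and minimality give equality.
(B) `rad := {x ∈ cyc s w | ∀ y ∈ cyc s w, polar x y = 0}` is `s`-stable; `s` is semisimple
(`Module.End.isSemisimple_of_squarefree_aeval_eq_zero`, `X ^ r - 1` squarefree), so `rad` has an
`s`-stable complement `C` (`Module.End.isSemisimple_iff`); `w = w₁ + w₂`, `w₁ ∈ rad`, `w₂ ∈ C`,
`Q w₂ = Q w ≠ 0` (`Q w₁ = 0`, `polar w₁ w₂ = 0`), `w₂ ∈ cyc s w`, so by (A)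
`cyc s w ≤ cyc s w₂ ≤ C`, hence `rad ≤ rad ⊓ C = ⊥`. -/
def MinSub : Prop := ∀ (F : Type u) [Field F] (V : Type u) [AddCommGroup V] [Module F V]
  [FiniteDimensional F V] (Q : QuadraticForm F V), (2 : F) ≠ 0 → Sep Q →
  ∀ (s : V ≃ₗ[F] V) (r : ℕ), s ∈ O Q → (r : F) ≠ 0 → s ^ r = 1 → (∃ v : V, v ≠ 0) →
  ∃ w : V, Q w ≠ 0 ∧ Sep (res Q (cyc s w)) ∧ ∀ w' ∈ cyc s w, Q w' ≠ 0 → cyc s w ≤ cyc s w'

/-- [GLUE] From the irreducible case on `U := ↥(cyc s w)` to the whole space.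
Sketch: `s` restricts to `s₁ : ↥W ≃ₗ[F] ↥W`, `W := cyc s w` (`s`-stable, and `s⁻¹ = s ^ (r-1)`);
`IrrHyp (res Q W) s₁ r` holds (no fixed vectors; `⟨w, _⟩` nonsingular; minimality gives
`cyc s₁ w' = ⊤`).  `Irr` gives `g₁ ∈ O (res Q W)`.  `finrank W ≥ 2` (a line would give
`s w = ± w`, impossible).  `cdp_of_two_ne_zero`: `g₁ = (vs₁.map (reflE (res Q W))).prod`; the
length is even (`det g₁ = 1`, `detHom_prod`) and the product of the values is a non-square
(`Spinor.mem_commutator_iff` in `W`, as `signChar g₁ = -1` excludes the commutator subgroup).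
`vs := vs₁.map (↑)`: the product of the `reflE Q ↑v` restricts to `g₁` on `W` and to `1` on
`W^⊥`, both `s`-stable with `W ⊔ W^⊥ = ⊤` (`Sep (res Q W)`), so it commutes with `s`. -/
def Glue : Prop := ∀ (F : Type u) [Field F] [Fintype F] (V : Type u) [AddCommGroup V]
  [Module F V] [FiniteDimensional F V] (Q : QuadraticForm F V), (2 : F) ≠ 0 → Sep Q →
  ∀ (s : V ≃ₗ[F] V) (r : ℕ), s ∈ O Q → Odd r → (r : F) ≠ 0 → s ^ r = 1 →
  (∀ v : V, s v = v → v = 0) → ∀ w : V, Q w ≠ 0 → Sep (res Q (cyc s w)) →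
  (∀ w' ∈ cyc s w, Q w' ≠ 0 → cyc s w ≤ cyc s w') → SpinList Q s

/-- [FIXND] The fixed space of a semisimple isometry is nondegenerate.
Sketch: `P v := r⁻¹ • Σ_{i<r} s^i v ∈ fixS s`; for `x ∈ fixS s`,
`polar x v = polar (s^i x) (s^i v) = polar x (s^i v)`, so `polar x v = polar x (P v)`; if `x` is
orthogonal to `fixS s` then `polar x v = 0` for all `v`, so `x = 0`. -/
def FixNd : Prop := ∀ (F : Type u) [Field F] (V : Type u) [AddCommGroup V] [Module F V]
  [FiniteDimensional F V] (Q : QuadraticForm F V), Sep Q →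
  ∀ (s : V ≃ₗ[F] V) (r : ℕ), s ∈ O Q → (r : F) ≠ 0 → s ^ r = 1 → Sep (res Q (fixS s))

/-- [FIXPAR] The fixed space of an isometry of odd order of an even-dimensional space has even
dimension.
Sketch: `cdp_of_two_ne_zero`: `s = (vs.map (reflE Q)).prod`; `Parity.finrank_fix_prod`:
`finrank (fixS s) + vs.length ≡ finrank V (mod 2)`; `Spinor.detHom_prod`: `det s = (-1) ^ length`,
and `det s = 1` because `(det s) ^ r = 1` with `r` odd and `det s = ± 1`; so the length is even. -/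
def FixPar : Prop := ∀ (F : Type u) [Field F] (V : Type u) [AddCommGroup V] [Module F V]
  [FiniteDimensional F V] (Q : QuadraticForm F V), (2 : F) ≠ 0 → Sep Q →
  ∀ (s : V ≃ₗ[F] V) (r : ℕ), s ∈ O Q → Odd r → s ^ r = 1 → Even (finrank F V) →
  Even (finrank F (fixS s))

/-- [FIXPAIR] If `s` fixes a nonzero vector (even dimension), it fixes two nonsingular vectors
whose values have non-square product.
Sketch: `W := fixS s` is nondegenerate (`FixNd`) of even dimension (`FixPar`), nonzero, so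
`finrank W ≥ 2`; `QClass.exists_q_eq` on `res Q W` gives `u` with `Q u = 1` and `w` with
`Q w = ζ`, `ζ` a non-square (`FiniteField.exists_nonsquare`). -/
def FixPair : Prop := ∀ (F : Type u) [Field F] [Fintype F] (V : Type u) [AddCommGroup V]
  [Module F V] [FiniteDimensional F V] (Q : QuadraticForm F V), (2 : F) ≠ 0 → Sep Q →
  ∀ (s : V ≃ₗ[F] V) (r : ℕ), s ∈ O Q → Odd r → (r : F) ≠ 0 → s ^ r = 1 → Even (finrank F V) →
  (∃ v : V, v ≠ 0 ∧ s v = v) →
  ∃ u w : V, s u = u ∧ s w = w ∧ Q u ≠ 0 ∧ Q w ≠ 0 ∧ ¬ IsSquare (Q u * Q w)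

/-- [SPINABS] The abstract statement. -/
def SpinAbs : Prop := ∀ (F : Type u) [Field F] [Fintype F] (V : Type u) [AddCommGroup V]
  [Module F V] [FiniteDimensional F V] (Q : QuadraticForm F V), (2 : F) ≠ 0 → Sep Q →
  Even (finrank F V) → 0 < finrank F V →
  ∀ (s : V ≃ₗ[F] V) (r : ℕ), s ∈ O Q → Odd r → (r : F) ≠ 0 → s ^ r = 1 → SpinList Q s

/-- [SPINMAT] The matrix form: an element of `SO(Q)` outside `Ω(Q)` commuting with `s`.
Sketch: `V := ι → F`, `s' := isoEquiv Q s` (`Helper44.OMat`); `SpinAbs` gives `vs`;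
`σ := (isoEquiv Q).symm ⟨(vs.map (reflE Q)).prod, _⟩`; `σ ∉ Ω` by `OMat.mem_omega_iff` and
`Spinor.mem_commutator_iff` (`finrank = card ι ≥ 2`); `det σ = 1`: `Spinor.detHom_prod` and the
comparison of `LinearEquiv.det (glEquiv g)` with `Matrix.det` (or `Helper45.OmegaAutMain.det_rfl'`
and `rfl'`, or `Helper44.ODet`). -/
def SpinMat : Prop := ∀ (F : Type u) [Field F] [Fintype F] (ι : Type) [Fintype ι] [DecidableEq ι]
  (Q : QuadraticForm F (ι → F)), (2 : F) ≠ 0 → Sep Q → ∀ (k : ℕ), Fintype.card ι = 2 * k →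
  0 < k → ∀ (s : ↥(Cfsg.isometryGroup F ⇑Q)) (r : ℕ), Odd r → (r : F) ≠ 0 → s ^ r = 1 →
  ∃ σ : ↥(Cfsg.specialIsometryGroup F ⇑Q),
    (σ : ↥(Cfsg.isometryGroup F ⇑Q)) ∉ Cfsg.Omega F ⇑Q ∧
    (σ : ↥(Cfsg.isometryGroup F ⇑Q)) * s = s * (σ : ↥(Cfsg.isometryGroup F ⇑Q))

open Cfsg.Agent.Lib.Helper45.OmegaAut Cfsg.Agent.Lib.Helper45.OmegaAutPsi
open Cfsg.Agent.Lib.Helper45.OmegaAutMain Cfsg.Agent.Lib.Helper45.OmegaInndiag
open Cfsg.Agent.Lib.Helper45.OmegaAutIdx

/-- [PSOCOS] Every element of `D0` lies in `psoAut` or in `psoAut * Phi δ`, for `δ` with non-square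
multiplier and `dl δ = 1`.
Sketch: `h = Phi g`, `dl g = 1` (`mem_G0`, `D0 = G0.map Phi`); `psi_eq_one_iff_pso`,
`psi_eq_one_iff`: `Phi g ∈ psoAut ↔ IsSquare (mu g) ∧ dl g = 1`; if `mu g` is not a square then
`mu (g * δ⁻¹)` is (`chi_eq_one_iff`, `chi` a homomorphism to `Multiplicative (ZMod 2)`) and
`dl (g * δ⁻¹) = 1`. -/
def PsoCos : Prop := ∀ (F : Type u) [Field F] [Fintype F] (ι : Type) [Fintype ι] [DecidableEq ι]
  (Q : QuadraticForm F (ι → F)) (_h2 : (2 : F) ≠ 0) (_hS : Sep Q) (k : ℕ)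
  (_hk : Fintype.card ι = 2 * k) (_hn : 5 ≤ Fintype.card ι) (v₀ : ι → F) (hv₀ : Q v₀ ≠ 0)
  (δ : ↥(Cfsg.Geo.quadSimilarityGroup (F := F) ⇑Q)), ¬ IsSquare (mu Q δ) → dl Q hv₀ k δ = 1 →
  ∀ h : MulAut (Cfsg.POmega F ⇑Q), h ∈ D0 Q hv₀ k →
    h ∈ Cfsg.psoAut F ⇑Q ∨ h * (Phi ⇑Q δ)⁻¹ ∈ Cfsg.psoAut F ⇑Q

/-- [INNCOS] Every element of `psoAut` lies in `Inn` or in `Inn * fSO σ`, for `σ ∈ SO ∖ Ω`.
Sketch: `pso_eq' : psoAut = (fSO Q).range`, `inn_eq' : Inn = (Ω.subgroupOf SO).map (fSO Q)`,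
`index_omega_in_so : (Ω.subgroupOf SO).index = 2`; `h = fSO x`; if `x ∉ Ω` then `x * σ⁻¹ ∈ Ω`
(`Subgroup.mul_mem_iff_of_index_two`). -/
def InnCos : Prop := ∀ (F : Type u) [Field F] [Fintype F] (ι : Type) [Fintype ι] [DecidableEq ι]
  (Q : QuadraticForm F (ι → F)) (_h2 : (2 : F) ≠ 0) (_hS : Sep Q) (_hn : 2 ≤ Fintype.card ι)
  (σ : ↥(Cfsg.specialIsometryGroup F ⇑Q)), (σ : ↥(Cfsg.isometryGroup F ⇑Q)) ∉ Cfsg.Omega F ⇑Q →
  ∀ h : MulAut (Cfsg.POmega F ⇑Q), h ∈ Cfsg.psoAut F ⇑Q →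
    h ∈ Cfsg.Inn (Cfsg.POmega F ⇑Q) ∨ h * (fSO Q σ)⁻¹ ∈ Cfsg.Inn (Cfsg.POmega F ⇑Q)

end Cfsg.Agent.Lib.Helper43.SPStmt
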