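import Mathlib
import Cfsg.Agent.Lib.Helper13.SympMat
import Cfsg.Agent.S0246
import Cfsg.Agent.S0271

set_option autoImplicit false

namespace Cfsg.Agent.Lib.Helper43.SpBasic

open Matrix Cfsg.Agent.Lib.Helper13.SympMat

variable {F : Type*} [Field F] {m : ℕ}

/-- the basis vectors `e i` -/
def e (i : Fin m) : Fin m ⊕ Fin m → F := Pi.single (Sum.inl i) 1

/-- the basis vectors `f i` -/
def f (i : Fin m) : Fin m ⊕ Fin m → F := Pi.single (Sum.inr i) 1

theorem form_eq (u v : Fin m ⊕ Fin m → F) :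
    form m F u v = ∑ i, (u (Sum.inr i) * v (Sum.inl i) - u (Sum.inl i) * v (Sum.inr i)) := by
  rw [form_apply, Cfsg.sympForm, Matrix.J, Matrix.fromBlocks_mulVec]
  simp only [dotProduct, Fintype.sum_sum_type, Sum.elim_inl, Sum.elim_inr, Matrix.zero_mulVec,
    Matrix.neg_mulVec, Matrix.one_mulVec, zero_add, add_zero, Pi.neg_apply, Function.comp_apply]
  rw [← Finset.sum_add_distrib]
  apply Finset.sum_congr rfl
  intro i _
  ring

theorem form_e_right (x : Fin m ⊕ Fin m → F) (i : Fin m) : form m F x (e i) = x (Sum.inr i) := by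
  rw [form_eq, Finset.sum_eq_single i]
  · simp [e]
  · intro b _ hb
    simp [e, hb]
  · intro h
    exact absurd (Finset.mem_univ _) h

theorem form_f_right (x : Fin m ⊕ Fin m → F) (i : Fin m) : form m F x (f i) = - x (Sum.inl i) := by
  rw [form_eq, Finset.sum_eq_single i]
  · simp [f]
  · intro b _ hb
    simp [f, hb]
  · intro h
    exact absurd (Finset.mem_univ _) h

theorem form_skew (u v : Fin m ⊕ Fin m → F) : form m F u v = - form m F v u := by
  rw [form_eq, form_eq, ← Finset.sum_neg_distrib]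
  apply Finset.sum_congr rfl
  intro i _
  ring

theorem form_self (u : Fin m ⊕ Fin m → F) : form m F u u = 0 := form_alt m u

theorem form_e_left (x : Fin m ⊕ Fin m → F) (i : Fin m) : form m F (e i) x = - x (Sum.inr i) := by
  rw [form_skew, form_e_right]

theorem form_f_left (x : Fin m ⊕ Fin m → F) (i : Fin m) : form m F (f i) x = x (Sum.inl i) := by
  rw [form_skew, form_f_right, neg_neg]

theorem e_apply_inl (i k : Fin m) : (e i : Fin m ⊕ Fin m → F) (Sum.inl k) = if k = i then 1 else 0 := by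
  simp [e, Pi.single_apply]

theorem e_apply_inr (i k : Fin m) : (e i : Fin m ⊕ Fin m → F) (Sum.inr k) = 0 := by
  simp [e]

theorem f_apply_inr (i k : Fin m) : (f i : Fin m ⊕ Fin m → F) (Sum.inr k) = if k = i then 1 else 0 := by
  simp [f, Pi.single_apply]

theorem f_apply_inl (i k : Fin m) : (f i : Fin m ⊕ Fin m → F) (Sum.inl k) = 0 := by
  simp [f]

theorem e_ne_zero (i : Fin m) : (e i : Fin m ⊕ Fin m → F) ≠ 0 := by
  intro h
  have := congrFun h (Sum.inl i)
  rw [e_apply_inl, if_pos rfl] at this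
  exact one_ne_zero this

theorem f_ne_zero (i : Fin m) : (f i : Fin m ⊕ Fin m → F) ≠ 0 := by
  intro h
  have := congrFun h (Sum.inr i)
  rw [f_apply_inr, if_pos rfl] at this
  exact one_ne_zero this

/-- nondegeneracy -/
theorem exists_form_ne {v : Fin m ⊕ Fin m → F} (hv : v ≠ 0) : ∃ x, form m F x v ≠ 0 := by
  by_contra hcon
  push Not at hcon
  apply hv
  funext k
  rcases k with i | i
  · have := hcon (f i)
    rw [form_f_left] at this
    exact this
  · have := hcon (e i)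
    rw [form_e_left] at this
    exact neg_eq_zero.1 this

theorem eq_zero_of_form {v : Fin m ⊕ Fin m → F} (h : ∀ x, form m F x v = 0) : v = 0 := by
  by_contra hv
  obtain ⟨x, hx⟩ := exists_form_ne hv
  exact hx (h x)

/-! ### the symplectic group -/

theorem sp_ext {g h : Matrix.symplecticGroup (Fin m) F}
    (H : ∀ x, (g : Matrix (Fin m ⊕ Fin m) (Fin m ⊕ Fin m) F) *ᵥ x =
      (h : Matrix (Fin m ⊕ Fin m) (Fin m ⊕ Fin m) F) *ᵥ x) : g = h := by
  apply Subtype.ext
  apply Matrix.toLin'.injective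
  apply LinearMap.ext
  intro x
  rw [Matrix.toLin'_apply, Matrix.toLin'_apply]
  exact H x

theorem mul_mulVec (g h : Matrix.symplecticGroup (Fin m) F) (x : Fin m ⊕ Fin m → F) :
    ((g * h : Matrix.symplecticGroup (Fin m) F) : Matrix (Fin m ⊕ Fin m) (Fin m ⊕ Fin m) F) *ᵥ x =
      (g : Matrix (Fin m ⊕ Fin m) (Fin m ⊕ Fin m) F) *ᵥ
        ((h : Matrix (Fin m ⊕ Fin m) (Fin m ⊕ Fin m) F) *ᵥ x) := by
  rw [Submonoid.coe_mul, Matrix.mulVec_mulVec]

theorem one_mulVec' (x : Fin m ⊕ Fin m → F) :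
    ((1 : Matrix.symplecticGroup (Fin m) F) : Matrix (Fin m ⊕ Fin m) (Fin m ⊕ Fin m) F) *ᵥ x = x := by
  rw [Submonoid.coe_one, Matrix.one_mulVec]

theorem inv_mulVec_mulVec (g : Matrix.symplecticGroup (Fin m) F) (x : Fin m ⊕ Fin m → F) :
    ((g⁻¹ : Matrix.symplecticGroup (Fin m) F) : Matrix (Fin m ⊕ Fin m) (Fin m ⊕ Fin m) F) *ᵥ
      ((g : Matrix (Fin m ⊕ Fin m) (Fin m ⊕ Fin m) F) *ᵥ x) = x := by
  rw [← mul_mulVec, inv_mul_cancel, one_mulVec']

theorem mulVec_inv_mulVec (g : Matrix.symplecticGroup (Fin m) F) (x : Fin m ⊕ Fin m → F) :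
    (g : Matrix (Fin m ⊕ Fin m) (Fin m ⊕ Fin m) F) *ᵥ
      (((g⁻¹ : Matrix.symplecticGroup (Fin m) F) : Matrix (Fin m ⊕ Fin m) (Fin m ⊕ Fin m) F) *ᵥ x)
      = x := by
  rw [← mul_mulVec, mul_inv_cancel, one_mulVec']

theorem form_mulVec (g : Matrix.symplecticGroup (Fin m) F) (u v : Fin m ⊕ Fin m → F) :
    form m F ((g : Matrix (Fin m ⊕ Fin m) (Fin m ⊕ Fin m) F) *ᵥ u)
      ((g : Matrix (Fin m ⊕ Fin m) (Fin m ⊕ Fin m) F) *ᵥ v) = form m F u v :=
  (mem_symp_iff m _).1 g.2 u v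

theorem mulVec_ne_zero (g : Matrix.symplecticGroup (Fin m) F) {v : Fin m ⊕ Fin m → F}
    (hv : v ≠ 0) : (g : Matrix (Fin m ⊕ Fin m) (Fin m ⊕ Fin m) F) *ᵥ v ≠ 0 := by
  intro h
  apply hv
  have := inv_mulVec_mulVec g v
  rw [h, Matrix.mulVec_zero] at this
  exact this.symm

/-- symplectic transvections as elements of the symplectic group -/
def t (v : Fin m ⊕ Fin m → F) (c : F) : Matrix.symplecticGroup (Fin m) F :=
  ⟨Cfsg.sympTransvection m v c, transvection_mem m v c⟩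

theorem t_mulVec (v : Fin m ⊕ Fin m → F) (c : F) (x : Fin m ⊕ Fin m → F) :
    ((t v c : Matrix.symplecticGroup (Fin m) F) : Matrix (Fin m ⊕ Fin m) (Fin m ⊕ Fin m) F) *ᵥ x =
      x + (c * form m F x v) • v := transvection_mulVec m v c x

theorem t_mul (v : Fin m ⊕ Fin m → F) (c d : F) : t v c * t v d = t v (c + d) :=
  Subtype.ext (transvection_mul m v c d)

theorem t_zero (v : Fin m ⊕ Fin m → F) : t v (0 : F) = 1 := by
  apply sp_ext
  intro x
  rw [t_mulVec, one_mulVec', zero_mul, zero_smul, add_zero]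

theorem t_zero_vec (c : F) : t (0 : Fin m ⊕ Fin m → F) c = 1 := by
  apply sp_ext
  intro x
  rw [t_mulVec, one_mulVec', smul_zero, add_zero]

theorem t_inv (v : Fin m ⊕ Fin m → F) (c : F) : (t v c)⁻¹ = t v (-c) := by
  apply inv_eq_of_mul_eq_one_right
  rw [t_mul, add_neg_cancel, t_zero]

theorem t_smul (a : F) (v : Fin m ⊕ Fin m → F) (c : F) : t (a • v) c = t v (a * a * c) := by
  apply sp_ext
  intro x
  rw [t_mulVec, t_mulVec, map_smul, smul_eq_mul, smul_smul]
  congr 2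
  ring

theorem t_pow (v : Fin m ⊕ Fin m → F) (c : F) (k : ℕ) : t v c ^ k = t v (k * c) := by
  induction k with
  | zero => rw [pow_zero, Nat.cast_zero, zero_mul, t_zero]
  | succ k ih => rw [pow_succ, ih, t_mul, Nat.cast_succ, add_mul, one_mul]

theorem t_pow_char (p : ℕ) [CharP F p] (v : Fin m ⊕ Fin m → F) (c : F) : t v c ^ p = 1 := by
  rw [t_pow, CharP.cast_eq_zero, zero_mul, t_zero]

theorem mul_t (g : Matrix.symplecticGroup (Fin m) F) (v : Fin m ⊕ Fin m → F) (c : F) :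
    g * t v c = t ((g : Matrix (Fin m ⊕ Fin m) (Fin m ⊕ Fin m) F) *ᵥ v) c * g := by
  apply sp_ext
  intro x
  rw [mul_mulVec, mul_mulVec, t_mulVec, t_mulVec, Matrix.mulVec_add, Matrix.mulVec_smul,
    form_mulVec]

theorem conj_t (g : Matrix.symplecticGroup (Fin m) F) (v : Fin m ⊕ Fin m → F) (c : F) :
    g * t v c * g⁻¹ = t ((g : Matrix (Fin m ⊕ Fin m) (Fin m ⊕ Fin m) F) *ᵥ v) c := by
  rw [mul_t, mul_assoc, mul_inv_cancel, mul_one]

theorem t_comm {u v : Fin m ⊕ Fin m → F} (h : form m F u v = 0) (a b : F) :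
    t u a * t v b = t v b * t u a := by
  have h1 := mul_t (t u a) v b
  rw [t_mulVec, form_skew, h, neg_zero, mul_zero, zero_smul, add_zero] at h1
  exact h1

/-! ### the projection to `PSp` -/

/-- the projection `Sp → PSp` -/
def pr : Matrix.symplecticGroup (Fin m) F →* Cfsg.PSp m F := QuotientGroup.mk' _

theorem pr_surjective : Function.Surjective (pr (F := F) (m := m)) :=
  QuotientGroup.mk'_surjective _

theorem exists_scalar_of_pr_eq (hm : 1 ≤ m) {g h : Matrix.symplecticGroup (Fin m) F}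
    (H : pr g = pr h) : ∃ a : F, a ^ 2 = 1 ∧
      (g : Matrix (Fin m ⊕ Fin m) (Fin m ⊕ Fin m) F) =
        a • (h : Matrix (Fin m ⊕ Fin m) (Fin m ⊕ Fin m) F) := by
  have h1 : pr (g * h⁻¹) = 1 := by rw [map_mul, map_inv, H, mul_inv_cancel]
  have h2 : g * h⁻¹ ∈ Subgroup.center (Matrix.symplecticGroup (Fin m) F) :=
    (QuotientGroup.eq_one_iff _).1 h1
  obtain ⟨a, ha, h3⟩ := Cfsg.Agent.S0246.center_scalar m hm _ h2
  refine ⟨a, ha, ?_⟩
  have h4 : g = (g * h⁻¹) * h := by rw [inv_mul_cancel_right]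
  have h5 := congrArg (fun z : Matrix.symplecticGroup (Fin m) F =>
    (z : Matrix (Fin m ⊕ Fin m) (Fin m ⊕ Fin m) F)) h4
  simp only [Submonoid.coe_mul] at h5
  rw [← Submonoid.coe_mul, h3, Matrix.smul_mul, Matrix.one_mul] at h5
  exact h5

theorem pr_eq_of_scalar {g h : Matrix.symplecticGroup (Fin m) F} (a : F)
    (H : (g : Matrix (Fin m ⊕ Fin m) (Fin m ⊕ Fin m) F) =
      a • (h : Matrix (Fin m ⊕ Fin m) (Fin m ⊕ Fin m) F)) : pr g = pr h := by
  have h1 : ((g * h⁻¹ : Matrix.symplecticGroup (Fin m) F) :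
      Matrix (Fin m ⊕ Fin m) (Fin m ⊕ Fin m) F) = a • 1 := by
    rw [Submonoid.coe_mul, H, Matrix.smul_mul, ← Submonoid.coe_mul, mul_inv_cancel,
      Submonoid.coe_one]
  have h2 : g * h⁻¹ ∈ Subgroup.center (Matrix.symplecticGroup (Fin m) F) := by
    rw [Subgroup.mem_center_iff]
    intro k
    apply Subtype.ext
    show (k : Matrix (Fin m ⊕ Fin m) (Fin m ⊕ Fin m) F) *
        ((g * h⁻¹ : Matrix.symplecticGroup (Fin m) F) :
          Matrix (Fin m ⊕ Fin m) (Fin m ⊕ Fin m) F) =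
      ((g * h⁻¹ : Matrix.symplecticGroup (Fin m) F) :
          Matrix (Fin m ⊕ Fin m) (Fin m ⊕ Fin m) F) * (k : Matrix (Fin m ⊕ Fin m) (Fin m ⊕ Fin m) F)
    rw [h1, Matrix.mul_smul, Matrix.smul_mul, Matrix.mul_one, Matrix.one_mul]
  have h3 : pr (g * h⁻¹) = 1 := (QuotientGroup.eq_one_iff _).2 h2
  rw [map_mul, map_inv, mul_inv_eq_one] at h3
  exact h3

/-- `pr` is injective on elements of order dividing the characteristic -/
theorem pr_inj_of_pow (hm : 1 ≤ m) (p : ℕ) [Fact p.Prime] [CharP F p]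
    {g h : Matrix.symplecticGroup (Fin m) F} (hg : g ^ p = 1) (hh : h ^ p = 1)
    (H : pr g = pr h) : g = h := by
  obtain ⟨a, ha, h1⟩ := exists_scalar_of_pr_eq hm H
  have h2 : ((g ^ p : Matrix.symplecticGroup (Fin m) F) :
      Matrix (Fin m ⊕ Fin m) (Fin m ⊕ Fin m) F) = a ^ p • 1 := by
    rw [SubmonoidClass.coe_pow, h1, smul_pow, ← SubmonoidClass.coe_pow, hh, Submonoid.coe_one]
  rw [hg, Submonoid.coe_one] at h2
  have h3 := congrFun (congrFun h2 (Sum.inl ⟨0, hm⟩)) (Sum.inl ⟨0, hm⟩)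
  rw [Matrix.smul_apply, Matrix.one_apply_eq, smul_eq_mul, mul_one] at h3
  have hp : p.Prime := Fact.out
  have ha1 : a = 1 := by
    rcases hp.eq_two_or_odd' with h2' | hodd
    · subst h2'
      have h20 : (2 : F) = 0 := by
        have := CharP.cast_eq_zero F 2
        exact_mod_cast this
      have : (a - 1) ^ 2 = 0 := by
        linear_combination ha + (1 - a) * h20
      exact sub_eq_zero.1 (pow_eq_zero_iff (two_ne_zero) |>.1 this)
    · obtain ⟨k, hk⟩ := hodd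
      rw [hk, pow_succ, pow_mul, ha, one_pow, one_mul] at h3
      exact h3.symm
  apply Subtype.ext
  rw [h1, ha1, one_smul]

/-! ### root sets -/

/-- the image of a transvection group in `PSp` -/
def R (v : Fin m ⊕ Fin m → F) : Set (Cfsg.PSp m F) := Set.range fun c => pr (t v c)

theorem mem_R (v : Fin m ⊕ Fin m → F) (y : Cfsg.PSp m F) : y ∈ R v ↔ ∃ c : F, pr (t v c) = y :=
  Iff.rfl

theorem pr_t_mem_R (v : Fin m ⊕ Fin m → F) (c : F) : pr (t v c) ∈ R v := ⟨c, rfl⟩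

theorem one_mem_R (v : Fin m ⊕ Fin m → F) : (1 : Cfsg.PSp m F) ∈ R v :=
  ⟨0, by show pr (t v 0) = 1; rw [t_zero, map_one]⟩

theorem conj_R (g : Matrix.symplecticGroup (Fin m) F) (v : Fin m ⊕ Fin m → F) :
    (MulAut.conj (pr g)) '' R v = R ((g : Matrix (Fin m ⊕ Fin m) (Fin m ⊕ Fin m) F) *ᵥ v) := by
  ext y
  constructor
  · rintro ⟨_, ⟨c, rfl⟩, rfl⟩
    refine ⟨c, ?_⟩
    rw [MulAut.conj_apply, ← map_mul, ← map_inv, ← map_mul, conj_t]
  · rintro ⟨c, rfl⟩
    refine ⟨pr (t v c), ⟨c, rfl⟩, ?_⟩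
    rw [MulAut.conj_apply, ← map_mul, ← map_inv, ← map_mul, conj_t]

theorem R_smul {a : F} (ha : a ≠ 0) (v : Fin m ⊕ Fin m → F) : R (a • v) = R v := by
  ext y
  constructor
  · rintro ⟨c, rfl⟩
    exact ⟨a * a * c, by show pr (t v (a * a * c)) = pr (t (a • v) c); rw [t_smul]⟩
  · rintro ⟨c, rfl⟩
    refine ⟨c / (a * a), ?_⟩
    show pr (t (a • v) (c / (a * a))) = pr (t v c)
    rw [t_smul]
    congr 2
    field_simp

theorem pr_t_injective (hm : 1 ≤ m) (p : ℕ) [Fact p.Prime] [CharP F p]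
    {v : Fin m ⊕ Fin m → F} (hv : v ≠ 0) {c d : F} (h : pr (t v c) = pr (t v d)) : c = d := by
  have h1 := pr_inj_of_pow hm p (t_pow_char p v c) (t_pow_char p v d) h
  obtain ⟨x, hx⟩ := exists_form_ne hv
  have h2 := congrArg (fun z : Matrix.symplecticGroup (Fin m) F =>
    (z : Matrix (Fin m ⊕ Fin m) (Fin m ⊕ Fin m) F) *ᵥ x) h1
  simp only [t_mulVec] at h2
  have h3 := add_left_cancel h2
  have h4 : (c * form m F x v - d * form m F x v) • v = 0 := by
    rw [sub_smul, h3, sub_self]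
  rcases smul_eq_zero.1 h4 with h5 | h5
  · have : (c - d) * form m F x v = 0 := by rw [sub_mul]; exact h5
    rcases mul_eq_zero.1 this with h6 | h6
    · exact sub_eq_zero.1 h6
    · exact absurd h6 hx
  · exact absurd h5 hv

/-- two sets commute elementwise -/
def Comm {G : Type*} [Group G] (A B : Set G) : Prop := ∀ x ∈ A, ∀ y ∈ B, x * y = y * x

theorem comm_image {G : Type*} [Group G] (α : MulAut G) (A B : Set G) :
    Comm (α '' A) (α '' B) ↔ Comm A B := by
  constructor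
  · intro h x hx y hy
    have := h (α x) ⟨x, hx, rfl⟩ (α y) ⟨y, hy, rfl⟩
    rw [← map_mul, ← map_mul] at this
    exact α.injective this
  · rintro h _ ⟨x, hx, rfl⟩ _ ⟨y, hy, rfl⟩
    rw [← map_mul, ← map_mul, h x hx y hy]

theorem comm_R_of_form {u v : Fin m ⊕ Fin m → F} (h : form m F u v = 0) : Comm (R u) (R v) := by
  rintro _ ⟨a, rfl⟩ _ ⟨b, rfl⟩
  show pr (t u a) * pr (t v b) = pr (t v b) * pr (t u a)
  rw [← map_mul, ← map_mul, t_comm h]

theorem form_of_comm_R (hm : 1 ≤ m) (p : ℕ) [Fact p.Prime] [CharP F p]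
    {u v : Fin m ⊕ Fin m → F} (h : Comm (R u) (R v)) : form m F u v = 0 := by
  have h1 := h _ (pr_t_mem_R u 1) _ (pr_t_mem_R v 1)
  have h2 : pr (t u 1 * t v 1 * (t u 1)⁻¹) = pr (t v (1 : F)) := by
    rw [map_mul, map_mul, h1, map_inv, mul_inv_cancel_right]
  rw [conj_t] at h2
  have h3 := pr_inj_of_pow hm p (t_pow_char p _ _) (t_pow_char p _ _) h2
  have h4 := congrArg (fun z : Matrix.symplecticGroup (Fin m) F =>
    (z : Matrix (Fin m ⊕ Fin m) (Fin m ⊕ Fin m) F) *ᵥ u) h3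
  simp only [t_mulVec, one_mul] at h4
  have h5 := add_left_cancel h4
  rw [map_add, map_smul, form_self, smul_zero, add_zero] at h5
  by_contra hc
  have h6 : form m F v u ≠ 0 := by
    rw [form_skew]
    exact neg_ne_zero.2 hc
  have h7 : form m F u v • (v + form m F v u • u) = form m F u v • v := h5
  have h8 := smul_right_injective _ hc h7
  have h9 : form m F v u • u = 0 := by
    have := h8
    rw [add_eq_left] at this
    exact this
  rcases smul_eq_zero.1 h9 with h10 | h10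
  · exact h6 h10
  · rw [h10] at hc
    exact hc (by simp)

theorem comm_R_iff (hm : 1 ≤ m) (p : ℕ) [Fact p.Prime] [CharP F p]
    {u v : Fin m ⊕ Fin m → F} : Comm (R u) (R v) ↔ form m F u v = 0 :=
  ⟨form_of_comm_R hm p, comm_R_of_form⟩

theorem R_subset (hm : 1 ≤ m) (p : ℕ) [Fact p.Prime] [CharP F p]
    {u v : Fin m ⊕ Fin m → F} (hu : u ≠ 0) (H : R u ⊆ R v) : ∃ c : F, c ≠ 0 ∧ v = c • u := by
  obtain ⟨b, hb⟩ := H (pr_t_mem_R u 1)
  have h1 := pr_inj_of_pow hm p (t_pow_char p _ _) (t_pow_char p _ _) hb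
  obtain ⟨x, hx⟩ := exists_form_ne hu
  have h2 := congrArg (fun z : Matrix.symplecticGroup (Fin m) F =>
    (z : Matrix (Fin m ⊕ Fin m) (Fin m ⊕ Fin m) F) *ᵥ x) h1
  simp only [t_mulVec, one_mul] at h2
  have h3 := add_left_cancel h2
  have h4 : b * form m F x v ≠ 0 := by
    intro h0
    rw [h0, zero_smul] at h3
    rcases smul_eq_zero.1 h3.symm with h5 | h5
    · exact hx h5
    · exact hu h5
  refine ⟨form m F x u / (b * form m F x v), div_ne_zero hx h4, ?_⟩
  rw [div_eq_mul_inv, mul_comm, mul_smul, ← h3, smul_smul, inv_mul_cancel₀ h4, one_smul]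

theorem exists_sp_map {u v : Fin m ⊕ Fin m → F} (hu : u ≠ 0) (hv : v ≠ 0) :
    ∃ g : Matrix.symplecticGroup (Fin m) F,
      (g : Matrix (Fin m ⊕ Fin m) (Fin m ⊕ Fin m) F) *ᵥ u = v :=
  Cfsg.Agent.S0271.result m u v hu hv

end Cfsg.Agent.Lib.Helper43.SpBasic
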