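import Mathlib
import Cfsg.Agent.Lib.Helper44.BCStmt

set_option autoImplicit false

/-! S2362 piece FORMS: the quadratic form in the coordinates of `Split`. -/

namespace Cfsg.Agent.Lib.Helper43.BCFORMS

open Matrix Polynomial QuadraticMap
open Cfsg.Agent.Lib.Helper44.QSpace Cfsg.Agent.Lib.Helper44.OGroup Cfsg.Agent.Lib.Helper44.OMat
open Cfsg.Agent.Lib.Helper44.OExt Cfsg.Agent.Lib.Helper44.BCStmt

universe u

section
variable {F : Type u} [Field F] {ι : Type} [Fintype ι] [DecidableEq ι]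

/-- inclusion of the first block -/
def inlL (k₁ k₂ : ℕ) : (Fin k₁ → F) →ₗ[F] (Fin k₁ ⊕ Fin k₂ → F) where
  toFun v := Sum.elim v (0 : Fin k₂ → F)
  map_add' a b := by
    funext i
    rcases i with i | i <;> simp
  map_smul' c a := by
    funext i
    rcases i with i | i <;> simp

/-- inclusion of the second block -/
def inrL (k₁ k₂ : ℕ) : (Fin k₂ → F) →ₗ[F] (Fin k₁ ⊕ Fin k₂ → F) where
  toFun v := Sum.elim (0 : Fin k₁ → F) v
  map_add' a b := by
    funext i
    rcases i with i | i <;> simp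
  map_smul' c a := by
    funext i
    rcases i with i | i <;> simp

theorem inlL_apply (k₁ k₂ : ℕ) (v : Fin k₁ → F) : inlL (F := F) k₁ k₂ v = Sum.elim v (0 : Fin k₂ → F) := rfl

theorem inrL_apply (k₁ k₂ : ℕ) (v : Fin k₂ → F) : inrL (F := F) k₁ k₂ v = Sum.elim (0 : Fin k₁ → F) v := rfl

theorem split_eq (k₁ k₂ : ℕ) (u : Fin k₁ ⊕ Fin k₂ → F) :
    u = inlL k₁ k₂ (u ∘ Sum.inl) + inrL k₁ k₂ (u ∘ Sum.inr) := by
  funext i
  rcases i with i | i <;> simp [inlL_apply, inrL_apply]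

theorem inlL_inj (k₁ k₂ : ℕ) : Function.Injective (inlL (F := F) k₁ k₂) := by
  intro a b hab
  funext i
  have := congrFun hab (Sum.inl i)
  simpa [inlL_apply] using this

theorem inrL_inj (k₁ k₂ : ℕ) : Function.Injective (inrL (F := F) k₁ k₂) := by
  intro a b hab
  funext i
  have := congrFun hab (Sum.inr i)
  simpa [inrL_apply] using this

/-- The matrix of the pulled-back form, halved. -/
noncomputable def gramN (Q : QuadraticForm F (ι → F)) {κ : Type} [Fintype κ] [DecidableEq κ]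
    (j : (κ → F) →ₗ[F] (ι → F)) : Matrix κ κ F :=
  (2⁻¹ : F) • LinearMap.BilinForm.toMatrix' (LinearMap.BilinForm.comp (polarBilin Q) j j)

theorem qN_gramN (h2 : (2 : F) ≠ 0) (Q : QuadraticForm F (ι → F)) {κ : Type} [Fintype κ]
    [DecidableEq κ] (j : (κ → F) →ₗ[F] (ι → F)) (v : κ → F) :
    qN (gramN Q j) v = Q (j v) := by
  unfold qN gramN
  rw [LinearMap.BilinMap.toQuadraticMap_apply, map_smul, Matrix.toBilin'_toMatrix']
  simp only [LinearMap.smul_apply, LinearMap.BilinForm.comp_apply, polarBilin_apply_apply,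
    smul_eq_mul]
  rw [polar_self', ← mul_assoc, inv_mul_cancel₀ h2, one_mul]

theorem polar_gramN (h2 : (2 : F) ≠ 0) (Q : QuadraticForm F (ι → F)) {κ : Type} [Fintype κ]
    [DecidableEq κ] (j : (κ → F) →ₗ[F] (ι → F)) (x y : κ → F) :
    polar (qN (gramN Q j)) x y = polar Q (j x) (j y) := by
  unfold polar
  rw [qN_gramN h2, qN_gramN h2, qN_gramN h2, map_add]

theorem det_gramN (h2 : (2 : F) ≠ 0) (Q : QuadraticForm F (ι → F)) {κ : Type} [Fintype κ]
    [DecidableEq κ] (j : (κ → F) →ₗ[F] (ι → F))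
    (h : ∀ y, (∀ x, polar Q (j x) (j y) = 0) → y = 0) :
    (gramN Q j + (gramN Q j)ᵀ).det ≠ 0 := by
  intro hdet
  obtain ⟨v, hv0, hv⟩ := Matrix.exists_mulVec_eq_zero_iff.mpr hdet
  apply hv0
  apply h
  intro x
  rw [← polar_gramN h2, polar_qN, hv, dotProduct_zero]

end

theorem main : Split.{u} → Decomp.{u} := by
  intro hSplit F _ ι _ _ Q h2 hsep T r hr hrF hTr hQ
  obtain ⟨k₁, k₂, T₂, J, hfix, hT⟩ := hSplit F ι T r hr hrF hTr
  -- the two inclusions
  let j1 : (Fin k₁ → F) →ₗ[F] (ι → F) := J.toLinearMap ∘ₗ inlL k₁ k₂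
  let j2 : (Fin k₂ → F) →ₗ[F] (ι → F) := J.toLinearMap ∘ₗ inrL k₁ k₂
  have hj1 : ∀ v, j1 v = J (Sum.elim v 0) := fun v => rfl
  have hj2 : ∀ v, j2 v = J (Sum.elim 0 v) := fun v => rfl
  have hJ : ∀ u, J u = j1 (u ∘ Sum.inl) + j2 (u ∘ Sum.inr) := by
    intro u
    conv_lhs => rw [split_eq k₁ k₂ u]
    rw [map_add]
    rfl
  have hj1inj : Function.Injective j1 := fun a b hab =>
    inlL_inj k₁ k₂ (J.injective hab)
  have hj2inj : Function.Injective j2 := fun a b hab =>
    inrL_inj k₁ k₂ (J.injective hab)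
  have hT1 : ∀ v, T *ᵥ j1 v = j1 v := by
    intro v
    rw [hj1, hT]
    simp
  have hT2 : ∀ w, T *ᵥ j2 w = j2 (T₂ *ᵥ w) := by
    intro w
    rw [hj2, hj2, hT]
    simp
  have hpol : ∀ x y, polar Q (T *ᵥ x) (T *ᵥ y) = polar Q x y := by
    intro x y
    unfold polar
    rw [← mulVec_add, hQ, hQ, hQ]
  -- `T₂ - 1` is surjective
  have hsurj : ∀ w : Fin k₂ → F, ∃ w' : Fin k₂ → F, T₂ *ᵥ w' - w' = w := by
    have hinj : Function.Injective (T₂ - 1).mulVecLin := by
      rw [← LinearMap.ker_eq_bot, LinearMap.ker_eq_bot']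
      intro v hv
      rw [Matrix.mulVecLin_apply, sub_mulVec, one_mulVec, sub_eq_zero] at hv
      exact hfix v hv
    have hs := LinearMap.injective_iff_surjective.mp hinj
    intro w
    obtain ⟨w', hw'⟩ := hs w
    refine ⟨w', ?_⟩
    rw [Matrix.mulVecLin_apply, sub_mulVec, one_mulVec] at hw'
    exact hw'
  have horth : ∀ v w, polar Q (j1 v) (j2 w) = 0 := by
    intro v w
    obtain ⟨w', rfl⟩ := hsurj w
    rw [map_sub, ← hT2, polar_sub_right]
    have : polar Q (j1 v) (T *ᵥ j2 w') = polar Q (j1 v) (j2 w') := by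
      conv_lhs => rw [← hT1 v]
      exact hpol _ _
    rw [this, sub_self]
  have hQJ : ∀ u, Q (J u) = Q (j1 (u ∘ Sum.inl)) + Q (j2 (u ∘ Sum.inr)) := by
    intro u
    rw [hJ]
    have := horth (u ∘ Sum.inl) (u ∘ Sum.inr)
    unfold polar at this
    linear_combination this
  have hpow : ∀ (n : ℕ) (w : Fin k₂ → F), (T ^ n) *ᵥ j2 w = j2 ((T₂ ^ n) *ᵥ w) := by
    intro n
    induction n with
    | zero => intro w; simp
    | succ n ih =>
      intro w
      rw [pow_succ, pow_succ, ← mulVec_mulVec, hT2, ih, mulVec_mulVec]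
  refine ⟨k₁, k₂, gramN Q j1, gramN Q j2, T₂, J, ?_, ?_, ?_, ?_, hfix, ?_, hT⟩
  · apply det_gramN h2
    intro y hy
    apply hj1inj
    rw [map_zero]
    apply hsep
    intro z
    obtain ⟨u, rfl⟩ := J.surjective z
    rw [hJ, polar_add_right, polar_comm, hy, horth, add_zero]
  · apply det_gramN h2
    intro y hy
    apply hj2inj
    rw [map_zero]
    apply hsep
    intro z
    obtain ⟨u, rfl⟩ := J.surjective z
    rw [hJ, polar_add_right, polar_comm, horth, polar_comm, hy, add_zero]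
  · apply matrix_ext_mulVec
    intro w
    apply hj2inj
    rw [← hpow, hTr, one_mulVec, one_mulVec]
  · intro v
    rw [qN_gramN h2, qN_gramN h2, ← hT2, hQ]
  · intro u
    rw [qN_gramN h2, qN_gramN h2, hQJ]

end Cfsg.Agent.Lib.Helper43.BCFORMS
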