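import Mathlib

/-!
# Characteristic 2: isometric involutions of a quadratic space (abstract core)

`Q` a quadratic form over a field of characteristic 2, `φ` a linear map with `φ (φ v) = v`,
`Q (φ v) = Q v`, `N v = φ v - v`.  Then `B (N u, w) = B (u, N w)`, `Q (N v) = B (v, N v)`,
`B (N u, N w) = 0`, `N (N v) = 0`; a pair `u, w` with `Q (N u) = Q (N w) = 0`, `B (u, N w) ≠ 0`
spans with `N u, N w` an invariant nondegenerate 4-space containing the totally singular plane
`⟨N u, N w⟩`; a singular `w` with `Q (N w) ≠ 0` spans with `N w` an invariant hyperbolic plane.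
-/

set_option autoImplicit false

namespace Cfsg.Agent.Lib.Helper43.C2Core

open QuadraticMap Module

universe u v

variable {F : Type u} [Field F] [CharP F 2] {V : Type v} [AddCommGroup V] [Module F V]

theorem add_self_v (F : Type u) [Field F] [CharP F 2] {V : Type v} [AddCommGroup V] [Module F V]
    (v : V) : v + v = 0 := by
  rw [← two_smul F v, CharTwo.two_eq_zero, zero_smul]

variable (Q : QuadraticForm F V) (φ : V →ₗ[F] V)

theorem polar_phi (hQ : ∀ v, Q (φ v) = Q v) (u w : V) :
    polar Q (φ u) (φ w) = polar Q u w := by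
  unfold polar
  rw [← map_add, hQ, hQ, hQ]

theorem polar_N_comm (h2 : ∀ v, φ (φ v) = v) (hQ : ∀ v, Q (φ v) = Q v) (u w : V) :
    polar Q (φ u - u) w = polar Q u (φ w - w) := by
  rw [polar_sub_left, polar_sub_right]
  have h := polar_phi Q φ hQ (φ u) w
  rw [h2] at h
  rw [h]

theorem NN_zero (h2 : ∀ v, φ (φ v) = v) (w : V) : φ (φ w - w) - (φ w - w) = 0 := by
  rw [map_sub, h2]
  have h1 := add_self_v F w
  have h3 := add_self_v F (φ w)
  have : w - φ w - (φ w - w) = (w + w) - (φ w + φ w) := by abel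
  rw [this, h1, h3, sub_zero]

theorem phi_N (h2 : ∀ v, φ (φ v) = v) (w : V) : φ (φ w - w) = φ w - w := by
  have := NN_zero (F := F) φ h2 w
  exact sub_eq_zero.mp this

theorem Q_N (hQ : ∀ v, Q (φ v) = Q v) (v : V) :
    Q (φ v - v) = polar Q v (φ v - v) := by
  have h1 : Q (φ v - v) = Q (φ v) + Q v - polar Q (φ v) v := by
    rw [sub_eq_add_neg, QuadraticMap.map_add Q, QuadraticMap.map_neg, polar_neg_right]
    ring
  rw [h1, hQ, polar_sub_right, polar_self, polar_comm Q v (φ v)]
  have h3 : Q v + Q v = 0 := CharTwo.add_self_eq_zero _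
  rw [two_smul, h3, zero_sub, sub_zero, CharTwo.neg_eq]

theorem polar_N_N (h2 : ∀ v, φ (φ v) = v) (hQ : ∀ v, Q (φ v) = Q v) (u w : V) :
    polar Q (φ u - u) (φ w - w) = 0 := by
  rw [polar_N_comm Q φ h2 hQ, NN_zero (F := F) φ h2, polar_zero_right]

theorem Q_N_add (h2 : ∀ v, φ (φ v) = v) (hQ : ∀ v, Q (φ v) = Q v) (u w : V) :
    Q (φ (u + w) - (u + w)) = Q (φ u - u) + Q (φ w - w) := by
  have : φ (u + w) - (u + w) = (φ u - u) + (φ w - w) := by rw [map_add]; abel
  rw [this, QuadraticMap.map_add Q, polar_N_N Q φ h2 hQ, add_zero]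

theorem Q_N_smul (c : F) (u : V) :
    Q (φ (c • u) - c • u) = c * c * Q (φ u - u) := by
  have : φ (c • u) - c • u = c • (φ u - u) := by rw [map_smul, smul_sub]
  rw [this, QuadraticMap.map_smul, smul_eq_mul]

/-- the 4-block: `u, w` with `Q (N w) = 0`, `B (u, N w) ≠ 0` -/
theorem block4 (h2 : ∀ v, φ (φ v) = v) (hQ : ∀ v, Q (φ v) = Q v) (u w : V)
    (hw : Q (φ w - w) = 0) (hs : polar Q u (φ w - w) ≠ 0) :
    ∃ A : Submodule F V, u ∈ A ∧ w ∈ A ∧ A.map φ ≤ A ∧
      (∀ Y : Submodule F V, Y.map φ ≤ Y → u ∈ Y → w ∈ Y → A ≤ Y) ∧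
      (∀ x ∈ A, (∀ y ∈ A, polar Q x y = 0) → x = 0) ∧ finrank F ↥A = 4 ∧
      (Q (φ u - u) = 0 → ∃ U : Submodule F V, U ≤ A ∧ (∀ y ∈ U, Q y = 0) ∧ finrank F ↥U = 2) := by
  obtain ⟨s, hsdef⟩ : ∃ s, s = polar Q u (φ w - w) := ⟨_, rfl⟩
  rw [← hsdef] at hs
  -- polar table
  have t_u_Nu : polar Q u (φ u - u) = Q (φ u - u) := (Q_N Q φ hQ u).symm
  have t_w_Nw : polar Q w (φ w - w) = 0 := by rw [← Q_N Q φ hQ, hw]
  have t_w_Nu : polar Q w (φ u - u) = s := by
    rw [polar_comm, polar_N_comm Q φ h2 hQ, hsdef]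
  have t_Nu_w : polar Q (φ u - u) w = s := by rw [polar_comm, t_w_Nu]
  have t_Nw_u : polar Q (φ w - w) u = s := by rw [polar_comm, hsdef]
  have t_Nu_u : polar Q (φ u - u) u = Q (φ u - u) := by rw [polar_comm, t_u_Nu]
  have t_Nw_w : polar Q (φ w - w) w = 0 := by rw [polar_comm, t_w_Nw]
  have t_uu : polar Q u u = 0 := by
    rw [polar_self, two_smul]
    exact CharTwo.add_self_eq_zero _
  have t_ww : polar Q w w = 0 := by
    rw [polar_self, two_smul]
    exact CharTwo.add_self_eq_zero _
  have key : ∀ p q r t : F,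
      (∀ y ∈ ({u, w, φ u - u, φ w - w} : Set V),
        polar Q (p • u + q • w + r • (φ u - u) + t • (φ w - w)) y = 0) →
      p = 0 ∧ q = 0 ∧ r = 0 ∧ t = 0 := by
    intro p q r t h
    have e1 := h (φ w - w) (by simp)
    have e2 := h (φ u - u) (by simp)
    have e3 := h w (by simp)
    have e4 := h u (by simp)
    simp only [polar_add_left, polar_smul_left, smul_eq_mul, polar_N_N Q φ h2 hQ, t_u_Nu,
      t_w_Nw, t_w_Nu, t_Nu_w, t_Nw_u, t_Nu_u, t_Nw_w, t_uu, t_ww, ← hsdef, mul_zero, add_zero,
      zero_add] at e1 e2 e3 e4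
    have hp : p = 0 := by
      rcases mul_eq_zero.mp e1 with h | h
      · exact h
      · exact absurd h hs
    subst hp
    simp only [zero_mul, zero_add] at e2 e3
    have hq : q = 0 := by
      rcases mul_eq_zero.mp e2 with h | h
      · exact h
      · exact absurd h hs
    subst hq
    simp only [zero_mul, zero_add] at e4
    have hr : r = 0 := by
      rcases mul_eq_zero.mp e3 with h | h
      · exact h
      · exact absurd h hs
    subst hr
    simp only [zero_mul, zero_add] at e4
    have ht : t = 0 := by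
      rcases mul_eq_zero.mp e4 with h | h
      · exact h
      · exact absurd h hs
    exact ⟨rfl, rfl, rfl, ht⟩
  have hmemA : ∀ x : V, x ∈ Submodule.span F ({u, w, φ u - u, φ w - w} : Set V) ↔
      ∃ p q r t : F, x = p • u + q • w + r • (φ u - u) + t • (φ w - w) := by
    intro x
    simp only [Submodule.mem_span_insert, Submodule.mem_span_singleton]
    constructor
    · rintro ⟨p, _, ⟨q, _, ⟨r, _, ⟨t, rfl⟩, rfl⟩, rfl⟩, rfl⟩
      exact ⟨p, q, r, t, by abel⟩
    · rintro ⟨p, q, r, t, rfl⟩
      exact ⟨p, _, ⟨q, _, ⟨r, _, ⟨t, rfl⟩, rfl⟩, rfl⟩, by abel⟩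
  have hli : LinearIndependent F ![u, w, φ u - u, φ w - w] := by
    rw [Fintype.linearIndependent_iff]
    intro g hg
    rw [Fin.sum_univ_four] at hg
    simp only [Matrix.cons_val_zero, Matrix.cons_val_one, Matrix.cons_val_two,
      Matrix.cons_val_three, Matrix.head_cons, Matrix.tail_cons] at hg
    have hk := key (g 0) (g 1) (g 2) (g 3) (by
      intro y _
      rw [hg, polar_zero_left])
    intro i
    fin_cases i
    · exact hk.1
    · exact hk.2.1
    · exact hk.2.2.1
    · exact hk.2.2.2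
  have hli2 : LinearIndependent F ![φ u - u, φ w - w] := by
    rw [LinearIndependent.pair_iff]
    intro r t hrt
    have hk := key 0 0 r t (by
      intro y _
      rw [zero_smul, zero_smul, zero_add, zero_add, hrt, polar_zero_left])
    exact ⟨hk.2.2.1, hk.2.2.2⟩
  have hrange4 : Set.range ![u, w, φ u - u, φ w - w] = ({u, w, φ u - u, φ w - w} : Set V) := by
    ext x
    simp only [Set.mem_range, Set.mem_insert_iff, Set.mem_singleton_iff]
    constructor
    · rintro ⟨i, rfl⟩
      fin_cases i <;> simp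
    · rintro (h | h | h | h)
      · exact ⟨0, by simp [h]⟩
      · exact ⟨1, by simp [h]⟩
      · exact ⟨2, by simp [h]⟩
      · exact ⟨3, by simp [h]⟩
  have hrange2 : Set.range ![φ u - u, φ w - w] = ({φ u - u, φ w - w} : Set V) := by
    ext x
    simp only [Set.mem_range, Set.mem_insert_iff, Set.mem_singleton_iff]
    constructor
    · rintro ⟨i, rfl⟩
      fin_cases i <;> simp
    · rintro (h | h)
      · exact ⟨0, by simp [h]⟩
      · exact ⟨1, by simp [h]⟩
  refine ⟨Submodule.span F ({u, w, φ u - u, φ w - w} : Set V), ?_, ?_, ?_, ?_, ?_, ?_, ?_⟩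
  · exact Submodule.subset_span (by simp)
  · exact Submodule.subset_span (by simp)
  · rw [Submodule.map_span_le]
    intro y hy
    simp only [Set.mem_insert_iff, Set.mem_singleton_iff] at hy
    rcases hy with rfl | rfl | rfl | rfl
    · rw [hmemA]
      exact ⟨1, 0, 1, 0, by simp⟩
    · rw [hmemA]
      exact ⟨0, 1, 0, 1, by simp⟩
    · rw [phi_N (F := F) φ h2]
      exact Submodule.subset_span (by simp)
    · rw [phi_N (F := F) φ h2]
      exact Submodule.subset_span (by simp)
  · intro Y hY huY hwY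
    rw [Submodule.span_le]
    intro y hy
    simp only [Set.mem_insert_iff, Set.mem_singleton_iff] at hy
    rcases hy with rfl | rfl | rfl | rfl
    · exact huY
    · exact hwY
    · exact Y.sub_mem (hY (Submodule.mem_map_of_mem huY)) huY
    · exact Y.sub_mem (hY (Submodule.mem_map_of_mem hwY)) hwY
  · intro x hx hxy
    obtain ⟨p, q, r, t, rfl⟩ := (hmemA x).mp hx
    have hk := key p q r t (fun y hy => hxy y (Submodule.subset_span hy))
    rw [hk.1, hk.2.1, hk.2.2.1, hk.2.2.2]
    simp
  · rw [← hrange4, finrank_span_eq_card hli]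
    simp
  · intro hu
    refine ⟨Submodule.span F ({φ u - u, φ w - w} : Set V), ?_, ?_, ?_⟩
    · apply Submodule.span_mono
      intro y hy
      simp only [Set.mem_insert_iff, Set.mem_singleton_iff] at hy ⊢
      rcases hy with h | h
      · exact Or.inr (Or.inr (Or.inl h))
      · exact Or.inr (Or.inr (Or.inr h))
    · intro y hy
      obtain ⟨r, t, rfl⟩ := Submodule.mem_span_pair.mp hy
      rw [QuadraticMap.map_add Q, QuadraticMap.map_smul, QuadraticMap.map_smul, hu, hw,
        polar_smul_left, polar_smul_right, polar_N_N Q φ h2 hQ]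
      simp
    · rw [← hrange2, finrank_span_eq_card hli2]
      simp

/-- the swap plane of a vector `w` with `Q (N w) ≠ 0` -/
theorem plane2 (h2 : ∀ v, φ (φ v) = v) (hQ : ∀ v, Q (φ v) = Q v) (w : V)
    (hs : Q (φ w - w) ≠ 0) :
    ∃ A : Submodule F V, w ∈ A ∧ A.map φ ≤ A ∧
      (∀ Y : Submodule F V, Y.map φ ≤ Y → w ∈ Y → A ≤ Y) ∧
      (∀ x ∈ A, (∀ y ∈ A, polar Q x y = 0) → x = 0) ∧ finrank F ↥A = 2 ∧
      (Q w = 0 → ∃ U : Submodule F V, U ≤ A ∧ (∀ y ∈ U, Q y = 0) ∧ finrank F ↥U = 1) := by
  have t1 : polar Q w (φ w - w) = Q (φ w - w) := (Q_N Q φ hQ w).symm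
  have t2 : polar Q (φ w - w) w = Q (φ w - w) := by rw [polar_comm, t1]
  have t3 : polar Q w w = 0 := by
    rw [polar_self, two_smul]
    exact CharTwo.add_self_eq_zero _
  have t4 : polar Q (φ w - w) (φ w - w) = 0 := polar_N_N Q φ h2 hQ w w
  have key : ∀ p q : F,
      (∀ y ∈ ({w, φ w - w} : Set V), polar Q (p • w + q • (φ w - w)) y = 0) →
      p = 0 ∧ q = 0 := by
    intro p q h
    have e1 := h (φ w - w) (by simp)
    have e2 := h w (by simp)
    simp only [polar_add_left, polar_smul_left, smul_eq_mul, t1, t2, t3, t4, mul_zero, add_zero,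
      zero_add] at e1 e2
    constructor
    · rcases mul_eq_zero.mp e1 with h | h
      · exact h
      · exact absurd h hs
    · rcases mul_eq_zero.mp e2 with h | h
      · exact h
      · exact absurd h hs
  have hw0 : w ≠ 0 := by
    intro h
    apply hs
    rw [h, map_zero, sub_zero, QuadraticMap.map_zero]
  have hli : LinearIndependent F ![w, φ w - w] := by
    rw [LinearIndependent.pair_iff]
    intro p q hpq
    exact key p q (by
      intro y _
      rw [hpq, polar_zero_left])
  have hrange2 : Set.range ![w, φ w - w] = ({w, φ w - w} : Set V) := by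
    ext x
    simp only [Set.mem_range, Set.mem_insert_iff, Set.mem_singleton_iff]
    constructor
    · rintro ⟨i, rfl⟩
      fin_cases i <;> simp
    · rintro (h | h)
      · exact ⟨0, by simp [h]⟩
      · exact ⟨1, by simp [h]⟩
  refine ⟨Submodule.span F ({w, φ w - w} : Set V), ?_, ?_, ?_, ?_, ?_, ?_⟩
  · exact Submodule.subset_span (by simp)
  · rw [Submodule.map_span_le]
    intro y hy
    simp only [Set.mem_insert_iff, Set.mem_singleton_iff] at hy
    rcases hy with rfl | rfl
    · rw [Submodule.mem_span_pair]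
      exact ⟨1, 1, by simp⟩
    · rw [phi_N (F := F) φ h2]
      exact Submodule.subset_span (by simp)
  · intro Y hY hwY
    rw [Submodule.span_le]
    intro y hy
    simp only [Set.mem_insert_iff, Set.mem_singleton_iff] at hy
    rcases hy with rfl | rfl
    · exact hwY
    · exact Y.sub_mem (hY (Submodule.mem_map_of_mem hwY)) hwY
  · intro x hx hxy
    obtain ⟨p, q, rfl⟩ := Submodule.mem_span_pair.mp hx
    have hk := key p q (fun y hy => hxy y (Submodule.subset_span hy))
    rw [hk.1, hk.2]
    simp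
  · rw [← hrange2, finrank_span_eq_card hli]
    simp
  · intro hw
    refine ⟨Submodule.span F ({w} : Set V), ?_, ?_, ?_⟩
    · apply Submodule.span_mono
      intro y hy
      simp only [Set.mem_insert_iff, Set.mem_singleton_iff] at hy ⊢
      exact Or.inl hy
    · intro y hy
      obtain ⟨c, rfl⟩ := Submodule.mem_span_singleton.mp hy
      rw [QuadraticMap.map_smul, hw, smul_zero]
    · exact finrank_span_singleton hw0

end Cfsg.Agent.Lib.Helper43.C2Core
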