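import Mathlib
import Cfsg.Agent.Lib.Helper80.FTStmt

set_option autoImplicit false

/-! S3999 piece HALLK: the join of the normal Sylow subgroups for the primes of `k` is a normal
subgroup of order `k`. -/

universe u

namespace Cfsg.Agent.Lib.Helper43.FTHALLK

open Cfsg.Agent.Lib.Helper80.FTStmt

theorem card_of_le {G : Type u} [Group G] (H K : Subgroup G) (hle : H ≤ K) :
    H.relIndex K * Nat.card H = Nat.card K := by
  have h1 := (H.subgroupOf K).index_mul_card
  have h2 : Nat.card (H.subgroupOf K) = Nat.card H :=
    Nat.card_congr (Subgroup.subgroupOfEquivOfLe hle).toEquiv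
  rw [h2] at h1
  exact h1

theorem card_sup {G : Type u} [Group G] (L P : Subgroup G) [P.Normal] (hinf : L ⊓ P = ⊥) :
    Nat.card ↥(L ⊔ P) = Nat.card L * Nat.card P := by
  have h1 := card_of_le P (L ⊔ P) le_sup_right
  rw [Subgroup.relIndex_sup_right, ← Subgroup.inf_relIndex_right, inf_comm, hinf,
    Subgroup.relIndex_bot_left] at h1
  exact h1.symm

theorem main : HallK.{u} := by
  intro G _ _ k h hcard hcop hSyl
  classical
  have hGpos : 0 < Nat.card G := Nat.card_pos
  have hk0 : k ≠ 0 := by
    rintro rfl
    rw [zero_mul] at hcard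
    omega
  have hh0 : h ≠ 0 := by
    rintro rfl
    rw [mul_zero] at hcard
    omega
  have key : ∀ s : Finset ℕ, s ⊆ k.primeFactors →
      ∃ L : Subgroup G, L.Normal ∧ Nat.card L = ∏ p ∈ s, p ^ k.factorization p := by
    intro s
    induction s using Finset.induction_on with
    | empty =>
      intro _
      refine ⟨⊥, inferInstance, ?_⟩
      rw [Finset.prod_empty, Subgroup.card_bot]
    | insert p s hps ih =>
      intro hsub
      obtain ⟨L, hLn, hLc⟩ := ih (fun q hq => hsub (Finset.mem_insert_of_mem hq))
      have hpm := hsub (Finset.mem_insert_self p s)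
      have hp : p.Prime := Nat.prime_of_mem_primeFactors hpm
      have hpk : p ∣ k := Nat.dvd_of_mem_primeFactors hpm
      haveI : Fact p.Prime := ⟨hp⟩
      obtain ⟨P, hPn⟩ := hSyl p hpk
      have hph : ¬ p ∣ h := by
        intro hph
        have h3 := Nat.dvd_gcd hpk hph
        rw [Nat.Coprime.gcd_eq_one hcop] at h3
        exact hp.one_lt.ne' (Nat.dvd_one.mp h3)
      have hPc : Nat.card (P : Subgroup G) = p ^ k.factorization p := by
        rw [Sylow.card_eq_multiplicity, hcard, Nat.factorization_mul hk0 hh0, Finsupp.add_apply,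
          Nat.factorization_eq_zero_of_not_dvd hph, add_zero]
      have hcop' : (Nat.card L).Coprime (Nat.card (P : Subgroup G)) := by
        rw [hLc, hPc]
        apply Nat.Coprime.prod_left
        intro q hq
        have hqm := hsub (Finset.mem_insert_of_mem hq)
        have hq' : q.Prime := Nat.prime_of_mem_primeFactors hqm
        have hne : q ≠ p := fun e => hps (e ▸ hq)
        exact Nat.Coprime.pow _ _ ((Nat.coprime_primes hq' hp).mpr hne)
      have hinf : L ⊓ (P : Subgroup G) = ⊥ := Subgroup.inf_eq_bot_of_coprime hcop'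
      haveI := hLn
      haveI := hPn
      refine ⟨L ⊔ (P : Subgroup G), inferInstance, ?_⟩
      rw [card_sup L (P : Subgroup G) hinf, Finset.prod_insert hps, hLc, hPc, mul_comm]
  obtain ⟨L, hLn, hLc⟩ := key k.primeFactors (Finset.Subset.refl _)
  refine ⟨L, hLn, ?_⟩
  rw [hLc, ← Nat.prod_factorization_eq_prod_primeFactors (fun p e => p ^ e)]
  exact Nat.factorization_prod_pow_eq_self hk0

end Cfsg.Agent.Lib.Helper43.FTHALLK
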