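import Mathlib
import Cfsg.Agent.Lib.Helper57.FTStmt
import Cfsg.Agent.Lib.Helper43.FTHALLK

/-!
# S3999 / HALLN (helper57's call): normal Hall subgroup from normal Sylow subgroups

Direct corollary of `Cfsg.Agent.Lib.Helper43.FTHALLK.main` (the same fact in helper80's call).
-/

set_option autoImplicit false

namespace Cfsg.Agent.Lib.Helper43.FTHALLN

universe u

theorem main : Cfsg.Agent.Lib.Helper57.FTStmt.HallN.{u} := by
  intro Y _ _ n m h1 h2 h3
  exact Cfsg.Agent.Lib.Helper43.FTHALLK.main n m h1 h2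
    (fun p _ hp => ⟨default, h3 p hp default⟩)

end Cfsg.Agent.Lib.Helper43.FTHALLN
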