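import Mathlib
import Cfsg.Agent.Lib.Helper43.OPlLine
import Cfsg.Agent.Lib.Helper43.OPlFrame
import Cfsg.Agent.Lib.Helper45.PlusInndiag

set_option autoImplicit false

namespace Cfsg.Agent.Lib.Helper43.OPlFin

open Matrix
open Cfsg.Agent.Lib.Helper94.Basic Cfsg.Agent.Lib.Helper94.GLAux Cfsg.Agent.Lib.Helper94.Tv
  Cfsg.Agent.Lib.Helper94.QuadAbs Cfsg.Agent.Lib.Helper94.OrthSiegel
  Cfsg.Agent.Lib.Helper43.OPlBase Cfsg.Agent.Lib.Helper43.OPlRoot
  Cfsg.Agent.Lib.Helper43.OPlRigid Cfsg.Agent.Lib.Helper43.OPlCent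
  Cfsg.Agent.Lib.Helper43.OPlSyl Cfsg.Agent.Lib.Helper43.OPlGeo
  Cfsg.Agent.Lib.Helper43.OPlLine Cfsg.Agent.Lib.Helper45.OmegaAut
open Cfsg.Agent.Lib.Helper94.SympAbs (bil_zero_left bil_zero_right bil_neg_left bil_neg_right
  bil_sub_left bil_sub_right)

universe u

section General

variable {F : Type*} [Field F] {ι : Type} [Fintype ι] [DecidableEq ι] {Q : (ι → F) → F}

theorem polar_sum_right (hQ : Cfsg.Geo.IsNondegenerateQuadraticForm Q) {κ : Type*}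
    (S : Finset κ) (z : ι → F) (y : κ → ι → F) :
    QuadraticMap.polar Q z (∑ i ∈ S, y i) = ∑ i ∈ S, QuadraticMap.polar Q z (y i) := by
  classical
  induction S using Finset.induction_on with
  | empty =>
    rw [Finset.sum_empty, Finset.sum_empty]
    exact bil_zero_right hQ.polar_bilinear z
  | insert k S hk ih =>
    rw [Finset.sum_insert hk, Finset.sum_insert hk, hQ.polar_bilinear.add_right, ih]

theorem Q_sum_perp (hQ : Cfsg.Geo.IsNondegenerateQuadraticForm Q) {κ : Type*} (S : Finset κ)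
    (y : κ → ι → F)
    (hperp : ∀ i ∈ S, ∀ j ∈ S, i ≠ j → QuadraticMap.polar Q (y i) (y j) = 0) :
    Q (∑ i ∈ S, y i) = ∑ i ∈ S, Q (y i) := by
  classical
  induction S using Finset.induction_on with
  | empty =>
    rw [Finset.sum_empty, Finset.sum_empty]
    exact Q_zero hQ
  | insert k S hk ih =>
    rw [Finset.sum_insert hk, Finset.sum_insert hk, Q_add Q,
      ih (fun i hi j hj hij => hperp i (Finset.mem_insert_of_mem hi) j
        (Finset.mem_insert_of_mem hj) hij), polar_sum_right hQ,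
      Finset.sum_eq_zero (fun i hi => hperp k (Finset.mem_insert_self k S) i
        (Finset.mem_insert_of_mem hi) (by rintro rfl; exact hk hi)), add_zero]

end General

variable {F : Type u} [Field F] [Fintype F] {m : ℕ}

/-- root elements of two lines through a common point have commuting images -/
theorem comm_of_common_pt (hm : 3 ≤ m) (p : ℕ) [Fact p.Prime] [CharP F p]
    (α : MulAut (Cfsg.POmega F (Cfsg.quadFormPlus m F))) {a e b d : Fin m ⊕ Fin m}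
    (hae : NO a e) (hbd : NO b d) {q : Fin m ⊕ Fin m → F} (hq0 : q ≠ 0)
    (hq1 : q ∈ Ln hm p α a e) (hq2 : q ∈ Ln hm p α b d)
    {x y : Cfsg.POmega F (Cfsg.quadFormPlus m F)} (hx : x ∈ RG hm (δ a) (δ e))
    (hy : y ∈ RG hm (δ b) (δ d)) : α x * α y = α y * α x := by
  obtain ⟨u1, v1, h1, i1, e1, l1⟩ := Ln_spec hm p α hae
  obtain ⟨u2, v2, h2, i2, e2, l2⟩ := Ln_spec hm p α hbd
  rw [l1] at hq1
  rw [l2] at hq2
  have hx' : α x ∈ RG hm u1 v1 := by
    rw [← e1]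
    exact ⟨x, hx, rfl⟩
  have hy' : α y ∈ RG hm u2 v2 := by
    rw [← e2]
    exact ⟨y, hy, rfl⟩
  obtain ⟨τ1, hτ1⟩ := hx'
  obtain ⟨τ2, hτ2⟩ := hy'
  obtain ⟨w1, hw1, hs1⟩ := line_through (hQ m F) h1 hq1 hq0 τ1
  obtain ⟨w2, hw2, hs2⟩ := line_through (hQ m F) h2 hq2 hq0 τ2
  rw [hτ1, hτ2, rt_congr hm hs1, rt_congr hm hs2]
  have hQq : Cfsg.quadFormPlus m F q = 0 := Q_span (hQ m F) h1 hq1
  have hB1 : QuadraticMap.polar (Cfsg.quadFormPlus m F) q w1 = 0 := B_span (hQ m F) h1 hq1 hw1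
  have hB2 : QuadraticMap.polar (Cfsg.quadFormPlus m F) q w2 = 0 := B_span (hQ m F) h2 hq2 hw2
  rw [← rt_add hm _ _ _ hQq hB1 hB2, ← rt_add hm _ _ _ hQq hB2 hB1, add_comm]

/-- the image of the frame -/
theorem main_pts (hm5 : 5 ≤ m) (p : ℕ) [Fact p.Prime] [CharP F p]
    (α : MulAut (Cfsg.POmega F (Cfsg.quadFormPlus m F))) :
    ∃ P : Fin m ⊕ Fin m → Fin m ⊕ Fin m → F,
      (∀ a b, NO a b → TS (Cfsg.quadFormPlus m F) (P a) (P b) ∧ Ind (P a) (P b) ∧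
        α '' RG (by omega : 3 ≤ m) (δ a) (δ b) = RG (by omega : 3 ≤ m) (P a) (P b)) ∧
      ∀ a, QuadraticMap.polar (Cfsg.quadFormPlus m F) (P a) (P a.swap) ≠ 0 := by
  have hm : 3 ≤ m := by omega
  obtain ⟨P, hP⟩ := exists_pts hm5 p α
  have hInd : ∀ a b, NO a b → Ind (P a) (P b) := by
    intro a b hab s t hst
    by_contra hne
    have hs : s ≠ 0 := by
      intro hs0
      rw [hs0, zero_smul, zero_add] at hst
      rcases smul_eq_zero.1 hst with h | h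
      · exact hne ⟨hs0, h⟩
      · exact (hP b).1 h
    have hPa : P a = (-(t / s)) • P b := by
      have h1 : s • P a = (-t) • P b := by
        linear_combination (norm := module) hst
      calc P a = s⁻¹ • (s • P a) := by rw [smul_smul, inv_mul_cancel₀ hs, one_smul]
        _ = (-(t / s)) • P b := by
          rw [h1, smul_smul]
          congr 1
          field_simp
    obtain ⟨d, hda, hda', hdb, hdb'⟩ := exists_other hm a b
    have hbd : NO b d := ⟨hdb, hdb'⟩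
    have hab' : NO a b.swap := ⟨sw1 hab.2, sw2 hab.1⟩
    have hq2 : P a ∈ Ln hm p α b d := by
      rw [hPa]
      exact Submodule.smul_mem _ _ ((hP b).2 d hbd)
    have hcomm := comm_of_common_pt hm p α hab' hbd (hP a).1 ((hP a).2 _ hab') hq2
      (x := X (F := F) hm b.swap a 1) (y := X (F := F) hm b d 1)
      (by rw [RG_symm hm hab']; exact ⟨1, rfl⟩) ⟨1, rfl⟩
    rw [← map_mul, ← map_mul] at hcomm
    have hcomm' := α.injective hcomm
    have hrel := X_rel (F := F) hm (a := b.swap) (b := a) (d := d) hab.symm.2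
      (by rw [Sum.swap_swap]; exact hab.symm.1) hdb' (by rw [Sum.swap_swap]; exact hdb) hda hda'
      1 1
    rw [Sum.swap_swap, hcomm', mul_inv_cancel_right] at hrel
    have h1 : X (F := F) hm a d (1 * 1) = 1 := by
      have h2 : X (F := F) hm b d 1 * 1 = X (F := F) hm b d 1 * X (F := F) hm a d (1 * 1) := by
        rw [mul_one]
        exact hrel
      exact (mul_left_cancel h2).symm
    have h3 := X_eq_one hm hda hda' h1
    rw [mul_one] at h3
    exact one_ne_zero h3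
  have hmain : ∀ a b, NO a b → TS (Cfsg.quadFormPlus m F) (P a) (P b) ∧ Ind (P a) (P b) ∧
      α '' RG hm (δ a) (δ b) = RG hm (P a) (P b) := by
    intro a b hab
    obtain ⟨u, v, h1, i1, e1, l1⟩ := Ln_spec hm p α hab
    have ha : P a ∈ Submodule.span F ({u, v} : Set (Fin m ⊕ Fin m → F)) := by
      rw [← l1]
      exact (hP a).2 b hab
    have hb : P b ∈ Submodule.span F ({u, v} : Set (Fin m ⊕ Fin m → F)) := by
      rw [← l1, Ln_symm hm p α hab]
      exact (hP b).2 a hab.symm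
    have hTS : TS (Cfsg.quadFormPlus m F) (P a) (P b) :=
      ⟨Q_span (hQ m F) h1 ha, Q_span (hQ m F) h1 hb, B_span (hQ m F) h1 ha hb⟩
    refine ⟨hTS, hInd a b hab, ?_⟩
    rw [e1]
    exact (RG_eq_of_span hm h1 hTS (hInd a b hab) ha hb).symm
  refine ⟨P, hmain, ?_⟩
  intro a hzero
  obtain ⟨b, hb, hb', -, -⟩ := exists_other hm a a
  obtain ⟨c, hc, hc', hcb, hcb'⟩ := exists_other hm a b
  have hab : NO a b := ⟨hb, hb'⟩
  have hac : NO a c := ⟨hc, hc'⟩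
  have hbc : NO b c := ⟨hcb, hcb'⟩
  have ha'c : NO a.swap c := ⟨hc', by rw [Sum.swap_swap]; exact hc⟩
  have hba' : NO b a.swap := ⟨Ne.symm hb', fun h => hb (swap_inj h).symm⟩
  obtain ⟨t1, i1, e1⟩ := hmain a b hab
  obtain ⟨t2, i2, e2⟩ := hmain a.swap c ha'c
  have hx : α (X (F := F) hm a b 1) ∈ RG hm (P a) (P b) := by
    rw [← e1]
    exact ⟨_, ⟨1, rfl⟩, rfl⟩
  have hy : α (X (F := F) hm a.swap c 1) ∈ RG hm (P a.swap) (P c) := by
    rw [← e2]
    exact ⟨_, ⟨1, rfl⟩, rfl⟩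
  obtain ⟨τ1, hτ1⟩ := hx
  obtain ⟨τ2, hτ2⟩ := hy
  have hbl := (hQ m F).polar_bilinear
  have hperp : Perp (Cfsg.quadFormPlus m F) (P a) (τ1 • P b) (P a.swap) (τ2 • P c) := by
    refine ⟨hzero, ?_, ?_, ?_⟩
    · rw [hbl.smul_right, (hmain a c hac).1.2.2, mul_zero]
    · rw [hbl.smul_left, (hmain b a.swap hba').1.2.2, mul_zero]
    · rw [hbl.smul_left, hbl.smul_right, (hmain b c hbc).1.2.2, mul_zero, mul_zero]
  have hsg := sg_comm_perp (hQ m F) (t1.smul_right (hQ m F) τ1) (t2.smul_right (hQ m F) τ2) hperp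
  have hcomm := rt_comm_of_sg hm hsg
  rw [← hτ1, ← hτ2, ← map_mul, ← map_mul] at hcomm
  have hcomm' := α.injective hcomm
  have hrel := X_rel (F := F) hm hb hb' hc hc' hcb hcb' 1 1
  rw [hcomm', mul_inv_cancel_right] at hrel
  have h1 : X (F := F) hm b c (1 * 1) = 1 := by
    have h2 : X (F := F) hm a.swap c 1 * 1 =
        X (F := F) hm a.swap c 1 * X (F := F) hm b c (1 * 1) := by
      rw [mul_one]
      exact hrel
    exact (mul_left_cancel h2).symm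
  have h3 := X_eq_one hm hcb hcb' h1
  rw [mul_one] at h3
  exact one_ne_zero h3

theorem mulVec_of (f : Fin m ⊕ Fin m → Fin m ⊕ Fin m → F) (x : Fin m ⊕ Fin m → F) :
    (Matrix.of (fun l a => f a l) : Matrix (Fin m ⊕ Fin m) (Fin m ⊕ Fin m) F) *ᵥ x =
      ∑ a, x a • f a := by
  funext l
  rw [Finset.sum_apply]
  simp only [Matrix.mulVec, dotProduct, Matrix.of_apply, Pi.smul_apply, smul_eq_mul]
  exact Finset.sum_congr rfl (fun a _ => mul_comm _ _)

theorem NO_ll {i j : Fin m} (hij : i ≠ j) :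
    NO (Sum.inl i : Fin m ⊕ Fin m) (Sum.inl j) :=
  ⟨by simp [Ne.symm hij], by simp⟩

theorem NO_lr {i j : Fin m} (hij : i ≠ j) :
    NO (Sum.inl i : Fin m ⊕ Fin m) (Sum.inr j) :=
  ⟨by simp, by simp [Ne.symm hij]⟩

theorem NO_rl {i j : Fin m} (hij : i ≠ j) :
    NO (Sum.inr i : Fin m ⊕ Fin m) (Sum.inl j) :=
  ⟨by simp, by simp [Ne.symm hij]⟩

theorem NO_rr {i j : Fin m} (hij : i ≠ j) :
    NO (Sum.inr i : Fin m ⊕ Fin m) (Sum.inr j) :=
  ⟨by simp [Ne.symm hij], by simp⟩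

/-- a hyperbolic frame gives an isometric matrix -/
theorem Q_frame (f : Fin m ⊕ Fin m → Fin m ⊕ Fin m → F)
    (h1 : ∀ a, Cfsg.quadFormPlus m F (f a) = 0)
    (h2 : ∀ i : Fin m,
      QuadraticMap.polar (Cfsg.quadFormPlus m F) (f (Sum.inl i)) (f (Sum.inr i)) = 1)
    (h3 : ∀ a b, NO a b → QuadraticMap.polar (Cfsg.quadFormPlus m F) (f a) (f b) = 0)
    (x : Fin m ⊕ Fin m → F) :
    Cfsg.quadFormPlus m F
      ((Matrix.of (fun l a => f a l) : Matrix (Fin m ⊕ Fin m) (Fin m ⊕ Fin m) F) *ᵥ x) =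
      Cfsg.quadFormPlus m F x := by
  have hbl := (hQ m F).polar_bilinear
  have hx : Cfsg.quadFormPlus m F x = ∑ i : Fin m, x (Sum.inl i) * x (Sum.inr i) := rfl
  rw [mulVec_of, Fintype.sum_sum_type, ← Finset.sum_add_distrib, Q_sum_perp (hQ m F), hx]
  · apply Finset.sum_congr rfl
    intro i _
    rw [Q_add (Cfsg.quadFormPlus m F), (hQ m F).smul, (hQ m F).smul, h1, h1, hbl.smul_left,
      hbl.smul_right, h2 i]
    ring
  · intro i _ j _ hij
    simp only [hbl.add_left, hbl.add_right, hbl.smul_left, hbl.smul_right]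
    rw [h3 _ _ (NO_ll hij), h3 _ _ (NO_lr hij), h3 _ _ (NO_rl hij), h3 _ _ (NO_rr hij)]
    ring

theorem exists_g0 (f : Fin m ⊕ Fin m → Fin m ⊕ Fin m → F)
    (h1 : ∀ a, Cfsg.quadFormPlus m F (f a) = 0)
    (h2 : ∀ i : Fin m,
      QuadraticMap.polar (Cfsg.quadFormPlus m F) (f (Sum.inl i)) (f (Sum.inr i)) = 1)
    (h3 : ∀ a b, NO a b → QuadraticMap.polar (Cfsg.quadFormPlus m F) (f a) (f b) = 0) :
    ∃ g : ↥(Cfsg.Geo.quadSimilarityGroup (F := F) (Cfsg.quadFormPlus m F)),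
      (∀ v, Cfsg.quadFormPlus m F (((g : GL (Fin m ⊕ Fin m) F) :
        Matrix (Fin m ⊕ Fin m) (Fin m ⊕ Fin m) F) *ᵥ v) = Cfsg.quadFormPlus m F v) ∧
      ∀ a, ((g : GL (Fin m ⊕ Fin m) F) :
        Matrix (Fin m ⊕ Fin m) (Fin m ⊕ Fin m) F) *ᵥ (δ a : Fin m ⊕ Fin m → F) = f a := by
  obtain ⟨g, hg⟩ := Cfsg.Agent.Lib.Helper45.PlusInndiag.exists_sim_mulVec
    (Cfsg.Agent.Lib.Helper44.NegPairs.plusQ m F) (Cfsg.Agent.Lib.Helper44.NegPairs.sep_plusQ m)
    (Matrix.mulVecLin (Matrix.of (fun l a => f a l) :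
      Matrix (Fin m ⊕ Fin m) (Fin m ⊕ Fin m) F)) 1
    (fun v => by
      rw [Units.val_one, one_mul]
      exact Q_frame f h1 h2 h3 v)
  refine ⟨g, fun v => ?_, fun a => ?_⟩
  · rw [hg]
    exact Q_frame f h1 h2 h3 v
  · rw [hg]
    funext l
    rw [Matrix.mulVecLin_apply, mulVec_δ]
    rfl

theorem Phi_rt (hm : 3 ≤ m)
    (g : ↥(Cfsg.Geo.quadSimilarityGroup (F := F) (Cfsg.quadFormPlus m F)))
    (hg : ∀ v, Cfsg.quadFormPlus m F (((g : GL (Fin m ⊕ Fin m) F) :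
        Matrix (Fin m ⊕ Fin m) (Fin m ⊕ Fin m) F) *ᵥ v) = Cfsg.quadFormPlus m F v)
    (a w : Fin m ⊕ Fin m → F) (ha : Cfsg.quadFormPlus m F a = 0)
    (haw : QuadraticMap.polar (Cfsg.quadFormPlus m F) a w = 0) :
    Phi (Cfsg.quadFormPlus m F) g (rt hm a w) =
      rt hm (((g : GL (Fin m ⊕ Fin m) F) : Matrix (Fin m ⊕ Fin m) (Fin m ⊕ Fin m) F) *ᵥ a)
        (((g : GL (Fin m ⊕ Fin m) F) : Matrix (Fin m ⊕ Fin m) (Fin m ⊕ Fin m) F) *ᵥ w) := by
  unfold rt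
  rw [Phi_mk]
  congr 1
  apply omega_ext
  rw [cjΩ_coe, T_coe, T_coe,
    sg_conj_sim (hQ m F) _ 1 one_ne_zero (fun v => by rw [one_mul]; exact hg v) _ _ ha haw,
    inv_one, one_smul]

/-- **frame normalisation** -/
theorem frame_normal (hm5 : 5 ≤ m) (α : MulAut (Cfsg.POmega F (Cfsg.quadFormPlus m F))) :
    ∃ g : ↥(Cfsg.Geo.quadSimilarityGroup (F := F) (Cfsg.quadFormPlus m F)),
      FrameStable ((Phi (Cfsg.quadFormPlus m F) g)⁻¹ * α) := by
  have hm : 3 ≤ m := by omega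
  obtain ⟨p, hp⟩ := CharP.exists F
  haveI : Fact p.Prime := ⟨CharP.char_is_prime F p⟩
  obtain ⟨P, hmain, hnd⟩ := main_pts hm5 p α
  have hbl := (hQ m F).polar_bilinear
  have hQP : ∀ a, Cfsg.quadFormPlus m F (P a) = 0 := by
    intro a
    obtain ⟨b, hb, hb', -, -⟩ := exists_other hm a a
    exact (hmain a b ⟨hb, hb'⟩).1.1
  obtain ⟨f, hf⟩ : ∃ f : Fin m ⊕ Fin m → Fin m ⊕ Fin m → F,
      (∀ i : Fin m, f (Sum.inl i) = P (Sum.inl i)) ∧
      (∀ i : Fin m, f (Sum.inr i) = (QuadraticMap.polar (Cfsg.quadFormPlus m F) (P (Sum.inl i))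
        (P (Sum.inr i)))⁻¹ • P (Sum.inr i)) :=
    ⟨fun a => Sum.elim (fun i => P (Sum.inl i))
      (fun i => (QuadraticMap.polar (Cfsg.quadFormPlus m F) (P (Sum.inl i))
        (P (Sum.inr i)))⁻¹ • P (Sum.inr i)) a, fun i => rfl, fun i => rfl⟩
  have hk : ∀ a, ∃ k : F, k ≠ 0 ∧ f a = k • P a := by
    intro a
    rcases a with i | i
    · exact ⟨1, one_ne_zero, by rw [hf.1, one_smul]⟩
    · exact ⟨_, inv_ne_zero (hnd (Sum.inl i)), hf.2 i⟩
  have h1 : ∀ a, Cfsg.quadFormPlus m F (f a) = 0 := by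
    intro a
    obtain ⟨k, -, hk⟩ := hk a
    rw [hk, (hQ m F).smul, hQP, mul_zero]
  have h2 : ∀ i : Fin m,
      QuadraticMap.polar (Cfsg.quadFormPlus m F) (f (Sum.inl i)) (f (Sum.inr i)) = 1 := by
    intro i
    rw [hf.1, hf.2, hbl.smul_right]
    exact inv_mul_cancel₀ (hnd (Sum.inl i))
  have h3 : ∀ a b, NO a b → QuadraticMap.polar (Cfsg.quadFormPlus m F) (f a) (f b) = 0 := by
    intro a b hab
    obtain ⟨k, -, hka⟩ := hk a
    obtain ⟨k', -, hkb⟩ := hk b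
    rw [hka, hkb, hbl.smul_left, hbl.smul_right, (hmain a b hab).1.2.2, mul_zero, mul_zero]
  obtain ⟨g, hg, hgδ⟩ := exists_g0 f h1 h2 h3
  refine ⟨g, ?_⟩
  rw [frameStable_iff hm]
  intro a b hab hab' t
  obtain ⟨hTS, -, e1⟩ := hmain a b ⟨hab, hab'⟩
  have hx : α (rt hm (δ a) (t • δ b)) ∈ RG hm (P a) (P b) := by
    rw [← e1]
    exact ⟨_, ⟨t, rfl⟩, rfl⟩
  obtain ⟨τ, hτ⟩ := hx
  obtain ⟨k, hk0, hka⟩ := hk a
  obtain ⟨k', hk0', hkb⟩ := hk b
  refine ⟨τ / (k * k'), ?_⟩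
  have h4 : rt hm (P a) (τ • P b) = rt hm (f a) ((τ / (k * k')) • f b) := by
    apply rt_congr
    rw [hka, hkb, sg_smul_left, smul_smul, smul_smul]
    congr 2
    field_simp
  have h5 : Phi (Cfsg.quadFormPlus m F) g (rt hm (δ a) ((τ / (k * k')) • δ b)) =
      rt hm (f a) ((τ / (k * k')) • f b) := by
    rw [Phi_rt hm g hg _ _ (Q_δ a) (frame_perp hab' _), Matrix.mulVec_smul, hgδ, hgδ]
  rw [MulAut.mul_apply, hτ, h4, ← h5, MulAut.inv_apply_self]

end Cfsg.Agent.Lib.Helper43.OPlFin
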