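import Mathlib
import Cfsg.Agent.Lib.Helper43.OOdLine
import Cfsg.Agent.Lib.Helper43.OPlFin
import Cfsg.Agent.Lib.Helper45.PlusInndiag

set_option autoImplicit false

namespace Cfsg.Agent.Lib.Helper43.OOdFin

open Matrix
open Cfsg.Agent.Lib.Helper94.Basic Cfsg.Agent.Lib.Helper94.GLAux Cfsg.Agent.Lib.Helper94.Tv
  Cfsg.Agent.Lib.Helper94.QuadAbs Cfsg.Agent.Lib.Helper94.OrthSiegel
  Cfsg.Agent.Lib.Helper43.OOdBase Cfsg.Agent.Lib.Helper43.OOdRoot
  Cfsg.Agent.Lib.Helper43.OOdRigid Cfsg.Agent.Lib.Helper43.OOdGen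
  Cfsg.Agent.Lib.Helper43.OOdSyl Cfsg.Agent.Lib.Helper43.OPlGeo
  Cfsg.Agent.Lib.Helper43.OOdLine Cfsg.Agent.Lib.Helper45.OmegaAut
open Cfsg.Agent.Lib.Helper43.OPlRoot (sg_add_left sg_inv sg_swap sg_self sg_conj_sim swap_inj
  exists_other)
open Cfsg.Agent.Lib.Helper43.OPlCent (sw1 sw2)
open Cfsg.Agent.Lib.Helper43.OPlLine (TS_isom Ind_gl NO ne_of_idx)
open Cfsg.Agent.Lib.Helper43.OPlFin (polar_sum_right Q_sum_perp NO_ll NO_lr NO_rl NO_rr)
open Cfsg.Agent.Lib.Helper94.SympAbs (bil_zero_left bil_zero_right bil_neg_left bil_neg_right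
  bil_sub_left bil_sub_right)

universe u

variable {F : Type u} [Field F] [Fintype F] {m : ℕ}

/-- root elements of two lines through a common point have commuting images -/
theorem comm_of_common_pt (hm : Hy m F) (p : ℕ) [Fact p.Prime] [CharP F p]
    (α : MulAut (Cfsg.POmega F (Cfsg.quadFormOdd m F))) {a e b d : Fin m ⊕ Fin m}
    (hae : NO a e) (hbd : NO b d) {q : OI m → F} (hq0 : q ≠ 0)
    (hq1 : q ∈ Ln hm p α a e) (hq2 : q ∈ Ln hm p α b d)
    {x y : Cfsg.POmega F (Cfsg.quadFormOdd m F)} (hx : x ∈ RG hm (E a) (E e))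
    (hy : y ∈ RG hm (E b) (E d)) : α x * α y = α y * α x := by
  obtain ⟨u1, v1, h1, i1, e1, l1⟩ := Ln_spec hm p α hae
  obtain ⟨u2, v2, h2, i2, e2, l2⟩ := Ln_spec hm p α hbd
  rw [l1] at hq1
  rw [l2] at hq2
  have hx' : α x ∈ RG hm u1 v1 := by
    rw [← e1]
    exact ⟨x, hx, rfl⟩
  have hy' : α y ∈ RG hm u2 v2 := by
    rw [← e2]
    exact ⟨y, hy, rfl⟩
  obtain ⟨τ1, hτ1⟩ := hx'
  obtain ⟨τ2, hτ2⟩ := hy'
  obtain ⟨w1, hw1, hs1⟩ := line_through (hQ hm) h1 hq1 hq0 τ1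
  obtain ⟨w2, hw2, hs2⟩ := line_through (hQ hm) h2 hq2 hq0 τ2
  rw [hτ1, hτ2, rt_congr hm hs1, rt_congr hm hs2]
  have hQq : Cfsg.quadFormOdd m F q = 0 := Q_span (hQ hm) h1 hq1
  have hB1 : QuadraticMap.polar (Cfsg.quadFormOdd m F) q w1 = 0 := B_span (hQ hm) h1 hq1 hw1
  have hB2 : QuadraticMap.polar (Cfsg.quadFormOdd m F) q w2 = 0 := B_span (hQ hm) h2 hq2 hw2
  rw [← rt_add hm _ _ _ hQq hB1 hB2, ← rt_add hm _ _ _ hQq hB2 hB1, add_comm]

/-- the image of the frame -/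
theorem main_pts (hm : Hy m F) (p : ℕ) [Fact p.Prime] [CharP F p]
    (α : MulAut (Cfsg.POmega F (Cfsg.quadFormOdd m F))) :
    ∃ P : Fin m ⊕ Fin m → OI m → F,
      (∀ a b, NO a b → TS (Cfsg.quadFormOdd m F) (P a) (P b) ∧ Ind (P a) (P b) ∧
        α '' RG hm (E a) (E b) = RG hm (P a) (P b)) ∧
      ∀ a, QuadraticMap.polar (Cfsg.quadFormOdd m F) (P a) (P a.swap) ≠ 0 := by
  obtain ⟨P, hP⟩ := exists_pts hm p α
  have hInd : ∀ a b, NO a b → Ind (P a) (P b) := by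
    intro a b hab s t hst
    by_contra hne
    have hs : s ≠ 0 := by
      intro hs0
      rw [hs0, zero_smul, zero_add] at hst
      rcases smul_eq_zero.1 hst with h | h
      · exact hne ⟨hs0, h⟩
      · exact (hP b).1 h
    have hPa : P a = (-(t / s)) • P b := by
      have h1 : s • P a = (-t) • P b := by
        linear_combination (norm := module) hst
      calc P a = s⁻¹ • (s • P a) := by rw [smul_smul, inv_mul_cancel₀ hs, one_smul]
        _ = (-(t / s)) • P b := by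
          rw [h1, smul_smul]
          congr 1
          field_simp
    obtain ⟨d, hda, hda', hdb, hdb'⟩ := exists_other hm.hm a b
    have hbd : NO b d := ⟨hdb, hdb'⟩
    have hab' : NO a b.swap := ⟨sw1 hab.2, sw2 hab.1⟩
    have hq2 : P a ∈ Ln hm p α b d := by
      rw [hPa]
      exact Submodule.smul_mem _ _ ((hP b).2 d hbd)
    have hcomm := comm_of_common_pt hm p α hab' hbd (hP a).1 ((hP a).2 _ hab') hq2
      (x := X (F := F) hm b.swap a 1) (y := X (F := F) hm b d 1)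
      (by rw [RG_symm hm hab']; exact ⟨1, rfl⟩) ⟨1, rfl⟩
    rw [← map_mul, ← map_mul] at hcomm
    have hcomm' := α.injective hcomm
    have hrel := X_rel (F := F) hm (a := b.swap) (b := a) (d := d) hab.symm.2
      (by rw [Sum.swap_swap]; exact hab.symm.1) hdb' (by rw [Sum.swap_swap]; exact hdb) hda hda'
      1 1
    rw [Sum.swap_swap, hcomm', mul_inv_cancel_right] at hrel
    have h1 : X (F := F) hm a d (1 * 1) = 1 := by
      have h2 : X (F := F) hm b d 1 * 1 = X (F := F) hm b d 1 * X (F := F) hm a d (1 * 1) := by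
        rw [mul_one]
        exact hrel
      exact (mul_left_cancel h2).symm
    have h3 := X_eq_one hm hda hda' h1
    rw [mul_one] at h3
    exact one_ne_zero h3
  have hmain : ∀ a b, NO a b → TS (Cfsg.quadFormOdd m F) (P a) (P b) ∧ Ind (P a) (P b) ∧
      α '' RG hm (E a) (E b) = RG hm (P a) (P b) := by
    intro a b hab
    obtain ⟨u, v, h1, i1, e1, l1⟩ := Ln_spec hm p α hab
    have ha : P a ∈ Submodule.span F ({u, v} : Set (OI m → F)) := by
      rw [← l1]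
      exact (hP a).2 b hab
    have hb : P b ∈ Submodule.span F ({u, v} : Set (OI m → F)) := by
      rw [← l1, Ln_symm hm p α hab]
      exact (hP b).2 a hab.symm
    have hTS : TS (Cfsg.quadFormOdd m F) (P a) (P b) :=
      ⟨Q_span (hQ hm) h1 ha, Q_span (hQ hm) h1 hb, B_span (hQ hm) h1 ha hb⟩
    refine ⟨hTS, hInd a b hab, ?_⟩
    rw [e1]
    exact (RG_eq_of_span hm h1 hTS (hInd a b hab) ha hb).symm
  refine ⟨P, hmain, ?_⟩
  intro a hzero
  obtain ⟨b, hb, hb', -, -⟩ := exists_other hm.hm a a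
  obtain ⟨c, hc, hc', hcb, hcb'⟩ := exists_other hm.hm a b
  have hab : NO a b := ⟨hb, hb'⟩
  have hac : NO a c := ⟨hc, hc'⟩
  have hbc : NO b c := ⟨hcb, hcb'⟩
  have ha'c : NO a.swap c := ⟨hc', by rw [Sum.swap_swap]; exact hc⟩
  have hba' : NO b a.swap := ⟨Ne.symm hb', fun h => hb (swap_inj h).symm⟩
  obtain ⟨t1, i1, e1⟩ := hmain a b hab
  obtain ⟨t2, i2, e2⟩ := hmain a.swap c ha'c
  have hx : α (X (F := F) hm a b 1) ∈ RG hm (P a) (P b) := by
    rw [← e1]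
    exact ⟨_, ⟨1, rfl⟩, rfl⟩
  have hy : α (X (F := F) hm a.swap c 1) ∈ RG hm (P a.swap) (P c) := by
    rw [← e2]
    exact ⟨_, ⟨1, rfl⟩, rfl⟩
  obtain ⟨τ1, hτ1⟩ := hx
  obtain ⟨τ2, hτ2⟩ := hy
  have hbl := (hQ hm).polar_bilinear
  have hperp : Perp (Cfsg.quadFormOdd m F) (P a) (τ1 • P b) (P a.swap) (τ2 • P c) := by
    refine ⟨hzero, ?_, ?_, ?_⟩
    · rw [hbl.smul_right, (hmain a c hac).1.2.2, mul_zero]
    · rw [hbl.smul_left, (hmain b a.swap hba').1.2.2, mul_zero]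
    · rw [hbl.smul_left, hbl.smul_right, (hmain b c hbc).1.2.2, mul_zero, mul_zero]
  have hsg := sg_comm_perp (hQ hm) (t1.smul_right (hQ hm) τ1) (t2.smul_right (hQ hm) τ2) hperp
  have hcomm := rt_comm_of_sg hm hsg
  rw [← hτ1, ← hτ2, ← map_mul, ← map_mul] at hcomm
  have hcomm' := α.injective hcomm
  have hrel := X_rel (F := F) hm hb hb' hc hc' hcb hcb' 1 1
  rw [hcomm', mul_inv_cancel_right] at hrel
  have h1 : X (F := F) hm b c (1 * 1) = 1 := by
    have h2 : X (F := F) hm a.swap c 1 * 1 =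
        X (F := F) hm a.swap c 1 * X (F := F) hm b c (1 * 1) := by
      rw [mul_one]
      exact hrel
    exact (mul_left_cancel h2).symm
  have h3 := X_eq_one hm hcb hcb' h1
  rw [mul_one] at h3
  exact one_ne_zero h3

theorem mulVec_of (f : OI m → OI m → F) (x : OI m → F) :
    (Matrix.of (fun l a => f a l) : Matrix (OI m) (OI m) F) *ᵥ x = ∑ a, x a • f a := by
  funext l
  rw [Finset.sum_apply]
  simp only [Matrix.mulVec, dotProduct, Matrix.of_apply, Pi.smul_apply, smul_eq_mul]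
  exact Finset.sum_congr rfl (fun a _ => mul_comm _ _)

/-- an anisotropic vector perpendicular to a hyperbolic frame -/
theorem exists_aniso (hm : Hy m F) (f : Fin m ⊕ Fin m → OI m → F)
    (h1 : ∀ a, Cfsg.quadFormOdd m F (f a) = 0)
    (h2 : ∀ a, QuadraticMap.polar (Cfsg.quadFormOdd m F) (f a) (f a.swap) ≠ 0)
    (h3 : ∀ a b, NO a b → QuadraticMap.polar (Cfsg.quadFormOdd m F) (f a) (f b) = 0) :
    ∃ w : OI m → F, (∀ a, QuadraticMap.polar (Cfsg.quadFormOdd m F) (f a) w = 0) ∧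
      Cfsg.quadFormOdd m F w ≠ 0 := by
  by_contra hcon
  push Not at hcon
  have hbl := (hQ hm).polar_bilinear
  obtain ⟨L, hL⟩ : ∃ L : (OI m → F) →ₗ[F] (Fin m ⊕ Fin m → F),
      ∀ x a, L x a = QuadraticMap.polar (Cfsg.quadFormOdd m F) (f a) x :=
    ⟨{ toFun := fun x a => QuadraticMap.polar (Cfsg.quadFormOdd m F) (f a) x
       map_add' := fun x y => by funext a; exact hbl.add_right _ _ _
       map_smul' := fun c x => by funext a; exact hbl.smul_right _ _ _ }, fun x a => rfl⟩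
  have hker : LinearMap.ker L ≠ ⊥ := by
    apply LinearMap.ker_ne_bot_of_finrank_lt
    simp only [Module.finrank_fintype_fun_eq_card, Fintype.card_sum, Fintype.card_fin,
      Fintype.card_unit]
    omega
  obtain ⟨w1, hw1, hw10⟩ := (Submodule.ne_bot_iff _).1 hker
  have hw1' : ∀ a, QuadraticMap.polar (Cfsg.quadFormOdd m F) (f a) w1 = 0 := by
    intro a
    rw [← hL]
    rw [LinearMap.mem_ker] at hw1
    rw [hw1]
    rfl
  have hWW : ∀ w w' : OI m → F,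
      (∀ a, QuadraticMap.polar (Cfsg.quadFormOdd m F) (f a) w = 0) →
      (∀ a, QuadraticMap.polar (Cfsg.quadFormOdd m F) (f a) w' = 0) →
      QuadraticMap.polar (Cfsg.quadFormOdd m F) w w' = 0 := by
    intro w w' hw hw'
    have h := hcon (w + w') (fun a => by rw [hbl.add_right, hw, hw', add_zero])
    rw [Q_add (Cfsg.quadFormOdd m F), hcon w hw, hcon w' hw', zero_add, zero_add] at h
    exact h
  obtain ⟨⟨x, hx⟩, -⟩ := (hQ hm).nondegenerate w1 hw10
  apply hx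
  have hx' : ∀ b, QuadraticMap.polar (Cfsg.quadFormOdd m F) (f b)
      (x - ∑ a, (QuadraticMap.polar (Cfsg.quadFormOdd m F) (f a.swap) x /
        QuadraticMap.polar (Cfsg.quadFormOdd m F) (f a.swap) (f a)) • f a) = 0 := by
    intro b
    rw [bil_sub_right hbl, polar_sum_right (hQ hm), Finset.sum_eq_single b.swap]
    · rw [hbl.smul_right, Sum.swap_swap, div_mul_cancel₀ _ (h2 b), sub_self]
    · intro a _ ha
      rw [hbl.smul_right]
      by_cases hab : a = b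
      · rw [hab, B_self (hQ hm), h1, mul_zero, mul_zero]
      · rw [h3 b a ⟨hab, ha⟩, mul_zero]
    · intro h
      exact absurd (Finset.mem_univ _) h
  have h5 := hWW _ _ hx' hw1'
  rw [bil_sub_left hbl, sub_eq_zero] at h5
  rw [h5, B_comm, polar_sum_right (hQ hm)]
  apply Finset.sum_eq_zero
  intro a _
  rw [hbl.smul_right, B_comm _ w1 (f a), hw1' a, mul_zero]

/-- a hyperbolic frame with an anisotropic vector gives a similitude matrix -/
theorem Q_frame (hm : Hy m F) (f : Fin m ⊕ Fin m → OI m → F) (w : OI m → F) (ν : F)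
    (h1 : ∀ a, Cfsg.quadFormOdd m F (f a) = 0)
    (h2 : ∀ i : Fin m,
      QuadraticMap.polar (Cfsg.quadFormOdd m F) (f (Sum.inl i)) (f (Sum.inr i)) = ν)
    (h3 : ∀ a b, NO a b → QuadraticMap.polar (Cfsg.quadFormOdd m F) (f a) (f b) = 0)
    (hw : ∀ a, QuadraticMap.polar (Cfsg.quadFormOdd m F) (f a) w = 0)
    (hν : Cfsg.quadFormOdd m F w = ν) (x : OI m → F) :
    Cfsg.quadFormOdd m F
      ((Matrix.of (fun l k => (Sum.elim (fun _ => w) f : OI m → OI m → F) k l) :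
        Matrix (OI m) (OI m) F) *ᵥ x) = ν * Cfsg.quadFormOdd m F x := by
  have hbl := (hQ hm).polar_bilinear
  have hx : Cfsg.quadFormOdd m F x = x (Sum.inl ()) ^ 2 +
      ∑ i : Fin m, x (Sum.inr (Sum.inl i)) * x (Sum.inr (Sum.inr i)) := rfl
  have hd : (default : Unit) = () := rfl
  rw [mulVec_of, Fintype.sum_sum_type, Fintype.sum_unique, Fintype.sum_sum_type,
    ← Finset.sum_add_distrib, hd]
  simp only [Sum.elim_inl, Sum.elim_inr]
  have e1 : ∀ i : Fin m, Cfsg.quadFormOdd m F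
      (x (Sum.inr (Sum.inl i)) • f (Sum.inl i) + x (Sum.inr (Sum.inr i)) • f (Sum.inr i)) =
      ν * (x (Sum.inr (Sum.inl i)) * x (Sum.inr (Sum.inr i))) := by
    intro i
    rw [Q_add (Cfsg.quadFormOdd m F), (hQ hm).smul, (hQ hm).smul, h1, h1, hbl.smul_left,
      hbl.smul_right, h2 i]
    ring
  have e2 : ∀ i : Fin m, QuadraticMap.polar (Cfsg.quadFormOdd m F) (x (Sum.inl ()) • w)
      (x (Sum.inr (Sum.inl i)) • f (Sum.inl i) + x (Sum.inr (Sum.inr i)) • f (Sum.inr i)) =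
      0 := by
    intro i
    rw [hbl.smul_left, hbl.add_right, hbl.smul_right, hbl.smul_right,
      B_comm _ w (f (Sum.inl i)), B_comm _ w (f (Sum.inr i)), hw, hw]
    ring
  rw [Q_add (Cfsg.quadFormOdd m F), (hQ hm).smul, hν, Q_sum_perp (hQ hm),
    polar_sum_right (hQ hm), Finset.sum_eq_zero (fun i _ => e2 i), add_zero, hx, mul_add,
    Finset.mul_sum, Finset.sum_congr rfl (fun i _ => e1 i)]
  · ring
  · intro i _ j _ hij
    simp only [hbl.add_left, hbl.add_right, hbl.smul_left, hbl.smul_right]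
    rw [h3 _ _ (NO_ll hij), h3 _ _ (NO_lr hij), h3 _ _ (NO_rl hij), h3 _ _ (NO_rr hij)]
    ring

theorem exists_g0 (hm : Hy m F) (f : Fin m ⊕ Fin m → OI m → F) (w : OI m → F) (ν : F)
    (hν0 : ν ≠ 0)
    (h1 : ∀ a, Cfsg.quadFormOdd m F (f a) = 0)
    (h2 : ∀ i : Fin m,
      QuadraticMap.polar (Cfsg.quadFormOdd m F) (f (Sum.inl i)) (f (Sum.inr i)) = ν)
    (h3 : ∀ a b, NO a b → QuadraticMap.polar (Cfsg.quadFormOdd m F) (f a) (f b) = 0)
    (hw : ∀ a, QuadraticMap.polar (Cfsg.quadFormOdd m F) (f a) w = 0)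
    (hν : Cfsg.quadFormOdd m F w = ν) :
    ∃ g : ↥(Cfsg.Geo.quadSimilarityGroup (F := F) (Cfsg.quadFormOdd m F)),
      (∀ v, Cfsg.quadFormOdd m F (((g : GL (OI m) F) :
        Matrix (OI m) (OI m) F) *ᵥ v) = ν * Cfsg.quadFormOdd m F v) ∧
      ∀ a, ((g : GL (OI m) F) : Matrix (OI m) (OI m) F) *ᵥ (E a : OI m → F) = f a := by
  obtain ⟨g, hg⟩ := Cfsg.Agent.Lib.Helper45.PlusInndiag.exists_sim_mulVec
    (Cfsg.Agent.Lib.Helper44.NegPairs.oddQ m F)
    (Cfsg.Agent.Lib.Helper44.NegPairs.sep_oddQ hm.h2 m)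
    (Matrix.mulVecLin (Matrix.of (fun l k => (Sum.elim (fun _ => w) f : OI m → OI m → F) k l) :
      Matrix (OI m) (OI m) F)) (Units.mk0 ν hν0)
    (fun v => by
      rw [Units.val_mk0]
      exact Q_frame hm f w ν h1 h2 h3 hw hν v)
  refine ⟨g, fun v => ?_, fun a => ?_⟩
  · rw [hg]
    exact Q_frame hm f w ν h1 h2 h3 hw hν v
  · rw [hg]
    funext l
    rw [Matrix.mulVecLin_apply, mulVec_E]
    rfl

theorem Phi_rt (hm : Hy m F)
    (g : ↥(Cfsg.Geo.quadSimilarityGroup (F := F) (Cfsg.quadFormOdd m F))) (ν : F) (hν : ν ≠ 0)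
    (hg : ∀ v, Cfsg.quadFormOdd m F (((g : GL (OI m) F) :
        Matrix (OI m) (OI m) F) *ᵥ v) = ν * Cfsg.quadFormOdd m F v)
    (a w : OI m → F) (ha : Cfsg.quadFormOdd m F a = 0)
    (haw : QuadraticMap.polar (Cfsg.quadFormOdd m F) a w = 0) :
    Phi (Cfsg.quadFormOdd m F) g (rt hm a w) =
      rt hm (((g : GL (OI m) F) : Matrix (OI m) (OI m) F) *ᵥ a)
        (ν⁻¹ • (((g : GL (OI m) F) : Matrix (OI m) (OI m) F) *ᵥ w)) := by
  unfold rt
  rw [Phi_mk]
  congr 1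
  apply omega_ext
  rw [cjΩ_coe, T_coe, T_coe, sg_conj_sim (hQ hm) _ ν hν hg _ _ ha haw]

/-- **frame normalisation** -/
theorem frame_normal (hm : Hy m F) (α : MulAut (Cfsg.POmega F (Cfsg.quadFormOdd m F))) :
    ∃ g : ↥(Cfsg.Geo.quadSimilarityGroup (F := F) (Cfsg.quadFormOdd m F)),
      FrameStable hm ((Phi (Cfsg.quadFormOdd m F) g)⁻¹ * α) := by
  obtain ⟨p, hp⟩ := CharP.exists F
  haveI : Fact p.Prime := ⟨CharP.char_is_prime F p⟩
  obtain ⟨P, hmain, hnd⟩ := main_pts hm p α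
  have hbl := (hQ hm).polar_bilinear
  have hQP : ∀ a, Cfsg.quadFormOdd m F (P a) = 0 := by
    intro a
    obtain ⟨b, hb, hb', -, -⟩ := exists_other hm.hm a a
    exact (hmain a b ⟨hb, hb'⟩).1.1
  obtain ⟨w, hw, hwQ⟩ := exists_aniso hm P hQP hnd (fun a b hab => (hmain a b hab).1.2.2)
  obtain ⟨ν, hν⟩ : ∃ ν : F, ν = Cfsg.quadFormOdd m F w := ⟨_, rfl⟩
  have hν0 : ν ≠ 0 := by
    rw [hν]
    exact hwQ
  obtain ⟨f, hf⟩ : ∃ f : Fin m ⊕ Fin m → OI m → F,
      (∀ i : Fin m, f (Sum.inl i) = P (Sum.inl i)) ∧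
      (∀ i : Fin m, f (Sum.inr i) = (ν / QuadraticMap.polar (Cfsg.quadFormOdd m F)
        (P (Sum.inl i)) (P (Sum.inr i))) • P (Sum.inr i)) :=
    ⟨fun a => Sum.elim (fun i => P (Sum.inl i))
      (fun i => (ν / QuadraticMap.polar (Cfsg.quadFormOdd m F) (P (Sum.inl i))
        (P (Sum.inr i))) • P (Sum.inr i)) a, fun i => rfl, fun i => rfl⟩
  have hk : ∀ a, ∃ k : F, k ≠ 0 ∧ f a = k • P a := by
    intro a
    rcases a with i | i
    · exact ⟨1, one_ne_zero, by rw [hf.1, one_smul]⟩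
    · exact ⟨_, div_ne_zero hν0 (hnd (Sum.inl i)), hf.2 i⟩
  have h1 : ∀ a, Cfsg.quadFormOdd m F (f a) = 0 := by
    intro a
    obtain ⟨k, -, hk⟩ := hk a
    rw [hk, (hQ hm).smul, hQP, mul_zero]
  have h2 : ∀ i : Fin m,
      QuadraticMap.polar (Cfsg.quadFormOdd m F) (f (Sum.inl i)) (f (Sum.inr i)) = ν := by
    intro i
    rw [hf.1, hf.2, hbl.smul_right]
    exact div_mul_cancel₀ _ (hnd (Sum.inl i))
  have h3 : ∀ a b, NO a b → QuadraticMap.polar (Cfsg.quadFormOdd m F) (f a) (f b) = 0 := by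
    intro a b hab
    obtain ⟨k, -, hka⟩ := hk a
    obtain ⟨k', -, hkb⟩ := hk b
    rw [hka, hkb, hbl.smul_left, hbl.smul_right, (hmain a b hab).1.2.2, mul_zero, mul_zero]
  have hw' : ∀ a, QuadraticMap.polar (Cfsg.quadFormOdd m F) (f a) w = 0 := by
    intro a
    obtain ⟨k, -, hka⟩ := hk a
    rw [hka, hbl.smul_left, hw, mul_zero]
  obtain ⟨g, hg, hgE⟩ := exists_g0 hm f w ν hν0 h1 h2 h3 hw' hν.symm
  refine ⟨g, ?_⟩
  intro a b hab hab' t
  obtain ⟨hTS, -, e1⟩ := hmain a b ⟨hab, hab'⟩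
  have hx : α (rt hm (E a) (t • E b)) ∈ RG hm (P a) (P b) := by
    rw [← e1]
    exact ⟨_, ⟨t, rfl⟩, rfl⟩
  obtain ⟨τ, hτ⟩ := hx
  obtain ⟨k, hk0, hka⟩ := hk a
  obtain ⟨k', hk0', hkb⟩ := hk b
  refine ⟨τ * ν / (k * k'), ?_⟩
  have h4 : rt hm (P a) (τ • P b) = rt hm (f a) (ν⁻¹ • ((τ * ν / (k * k')) • f b)) := by
    apply rt_congr
    rw [hka, hkb, sg_smul_left, smul_smul, smul_smul, smul_smul]
    congr 2
    field_simp
  have h5 : Phi (Cfsg.quadFormOdd m F) g (rt hm (E a) ((τ * ν / (k * k')) • E b)) =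
      rt hm (f a) (ν⁻¹ • ((τ * ν / (k * k')) • f b)) := by
    rw [Phi_rt hm g ν hν0 hg _ _ (Q_E a) (frame_perp hab' _), Matrix.mulVec_smul, hgE, hgE]
  rw [MulAut.mul_apply, hτ, h4, ← h5, MulAut.inv_apply_self]

end Cfsg.Agent.Lib.Helper43.OOdFin
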