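import Mathlib
import Cfsg.Agent.Lib.Helper43.OOdFin

set_option autoImplicit false

namespace Cfsg.Agent.Lib.Helper43.OOdFrame

open Matrix
open Cfsg.Agent.Lib.Helper94.Basic Cfsg.Agent.Lib.Helper94.GLAux Cfsg.Agent.Lib.Helper94.Tv
  Cfsg.Agent.Lib.Helper94.QuadAbs Cfsg.Agent.Lib.Helper94.OrthSiegel
  Cfsg.Agent.Lib.Helper43.OOdBase Cfsg.Agent.Lib.Helper43.OOdRoot
  Cfsg.Agent.Lib.Helper43.OOdAut
  Cfsg.Agent.Lib.Helper43.OOdRigid Cfsg.Agent.Lib.Helper43.OOdGen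
  Cfsg.Agent.Lib.Helper43.OOdSyl Cfsg.Agent.Lib.Helper43.OPlGeo
  Cfsg.Agent.Lib.Helper43.OOdLine Cfsg.Agent.Lib.Helper43.OOdFin
  Cfsg.Agent.Lib.Helper45.OmegaAut
open Cfsg.Agent.Lib.Helper43.OPlRoot (sg_add_left sg_inv sg_swap sg_self sg_conj_sim swap_inj
  exists_other)
open Cfsg.Agent.Lib.Helper43.OPlCent (sw1 sw2)

universe u

variable {F : Type u} [Field F] [Fintype F] {m : ℕ}

/-- the automorphism acts on the frame root groups through the maps `φ` -/
def Acts (hm : Hy m F) (β : MulAut (Cfsg.POmega F (Cfsg.quadFormOdd m F)))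
    (φ : Fin m ⊕ Fin m → Fin m ⊕ Fin m → F → F) : Prop :=
  ∀ a b : Fin m ⊕ Fin m, b ≠ a → b ≠ a.swap → ∀ t : F, β (X hm a b t) = X hm a b (φ a b t)

theorem exists_acts (hm : Hy m F) (β : MulAut (Cfsg.POmega F (Cfsg.quadFormOdd m F)))
    (h : FrameStable hm β) : ∃ φ, Acts hm β φ := by
  have h' : ∀ (a b : Fin m ⊕ Fin m) (t : F), ∃ t' : F, b ≠ a → b ≠ a.swap →
      β (X hm a b t) = X hm a b t' := by
    intro a b t
    by_cases h1 : b ≠ a ∧ b ≠ a.swap
    · obtain ⟨t', ht'⟩ := h a b h1.1 h1.2 t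
      exact ⟨t', fun _ _ => ht'⟩
    · exact ⟨0, fun h2 h3 => absurd ⟨h2, h3⟩ h1⟩
  choose φ hφ using h'
  exact ⟨φ, fun a b h1 h2 t => hφ a b t h1 h2⟩

namespace Acts

variable {hm : Hy m F} {β : MulAut (Cfsg.POmega F (Cfsg.quadFormOdd m F))}
  {φ : Fin m ⊕ Fin m → Fin m ⊕ Fin m → F → F}

theorem add (h : Acts hm β φ) {a b : Fin m ⊕ Fin m} (hab : b ≠ a) (hab' : b ≠ a.swap) (s t : F) :
    φ a b (s + t) = φ a b s + φ a b t := by
  apply X_inj hm hab hab'
  rw [← h a b hab hab', X_add hm hab', map_mul, h a b hab hab', h a b hab hab', ← X_add hm hab']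

theorem zero (h : Acts hm β φ) {a b : Fin m ⊕ Fin m} (hab : b ≠ a) (hab' : b ≠ a.swap) :
    φ a b 0 = 0 := by
  have := h.add hab hab' 0 0
  rw [add_zero] at this
  exact left_eq_add.1 this

theorem neg (h : Acts hm β φ) {a b : Fin m ⊕ Fin m} (hab : b ≠ a) (hab' : b ≠ a.swap) (t : F) :
    φ a b (-t) = - φ a b t := by
  have := h.add hab hab' t (-t)
  rw [add_neg_cancel, h.zero hab hab'] at this
  exact eq_neg_of_add_eq_zero_right this.symm

theorem inj (h : Acts hm β φ) {a b : Fin m ⊕ Fin m} (hab : b ≠ a) (hab' : b ≠ a.swap) :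
    Function.Injective (φ a b) := by
  intro s t hst
  apply X_inj hm hab hab'
  apply β.injective
  rw [h a b hab hab', h a b hab hab', hst]

/-- the commutator relation for the maps `φ` -/
theorem rel (h : Acts hm β φ) {a b d : Fin m ⊕ Fin m} (hba : b ≠ a) (hba' : b ≠ a.swap)
    (hda : d ≠ a) (hda' : d ≠ a.swap) (hdb : d ≠ b) (hdb' : d ≠ b.swap) (s t : F) :
    φ b d (s * t) = φ a b s * φ a.swap d t := by
  apply X_inj hm hdb hdb'
  have hda'' : d ≠ a.swap.swap := by rw [Sum.swap_swap]; exact hda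
  have h1 := congrArg β (X_rel hm hba hba' hda hda' hdb hdb' s t)
  rw [map_mul, map_mul, map_inv, map_mul, h a b hba hba', h a.swap d hda' hda'', h b d hdb hdb',
    X_rel hm hba hba' hda hda' hdb hdb'] at h1
  exact (mul_left_cancel h1).symm

end Acts

theorem comm_SX (hm : Hy m F) {a b : Fin m ⊕ Fin m} (hab' : b ≠ a.swap) (t s : F) :
    S hm a t * X hm a b s = X hm a b s * S hm a t := by
  unfold S X
  rw [← rt_add hm _ _ _ (Q_E a) (e0_perp a t) (frame_perp hab' s),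
    ← rt_add hm _ _ _ (Q_E a) (frame_perp hab' s) (e0_perp a t), add_comm]

theorem comm_SX' (hm : Hy m F) {a b c : Fin m ⊕ Fin m} (hba' : b ≠ a.swap) (hca' : c ≠ a.swap)
    (t s : F) : S hm a t * X hm b c s = X hm b c s * S hm a t := by
  have e1 : ((sg (hQ hm) (E a) (t • e0) : GL (OI m) F) : Matrix (OI m) (OI m) F) *ᵥ E b =
      E b := by
    rw [short_mulVec hm, E_ne (Ne.symm hba'), E_inl]
    simp
  have e2 : ((sg (hQ hm) (E a) (t • e0) : GL (OI m) F) : Matrix (OI m) (OI m) F) *ᵥ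
      (s • E c) = s • E c := by
    rw [short_mulVec hm, Pi.smul_apply, Pi.smul_apply, E_ne (Ne.symm hca'), E_inl]
    simp
  have h := rt_conj hm (T hm (E a) (t • e0)) (E b) (s • E c)
  rw [T_coe, e1, e2] at h
  exact mul_inv_eq_iff_eq_mul.1 h

/-- the square of the image of a short root element is a short root element -/
theorem short_sq (hm : Hy m F) {β : MulAut (Cfsg.POmega F (Cfsg.quadFormOdd m F))}
    {φ : Fin m ⊕ Fin m → Fin m ⊕ Fin m → F → F} (h : Acts hm β φ) (a : Fin m ⊕ Fin m) (t : F) :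
    ∃ t' : F, β (S hm a t) * β (S hm a t) = S hm a t' := by
  obtain ⟨p, hp⟩ := CharP.exists F
  haveI : Fact p.Prime := ⟨CharP.char_is_prime F p⟩
  have hbl := (hQ hm).polar_bilinear
  have h2F := hm.h2
  have hsurj : ∀ b c : Fin m ⊕ Fin m, c ≠ b → c ≠ b.swap → ∀ s : F,
      ∃ s' : F, β (X hm b c s') = X hm b c s := by
    intro b c hcb hcb' s
    obtain ⟨s', hs'⟩ := (Finite.injective_iff_surjective.1 (h.inj hcb hcb')) s
    exact ⟨s', by rw [h b c hcb hcb', hs']⟩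
  obtain ⟨g, hg⟩ := QuotientGroup.mk_surjective (β (S hm a t))
  obtain ⟨G, hGdef⟩ : ∃ G : GL (OI m) F,
      G = ((g : ↥(Cfsg.isometryGroup F (Cfsg.quadFormOdd m F))) : GL (OI m) F) := ⟨_, rfl⟩
  have hG : ∀ v, Cfsg.quadFormOdd m F ((G : Matrix (OI m) (OI m) F) *ᵥ v) =
      Cfsg.quadFormOdd m F v := by
    rw [hGdef]
    exact fun v => (mem_isometryGroup_iff _ _).1 g.1.2 v
  have cB : ∀ b c : Fin m ⊕ Fin m, b ≠ a.swap → c ≠ a.swap → c ≠ b → c ≠ b.swap →
      G * sg (hQ hm) (E b) (E c) = sg (hQ hm) (E b) (E c) * G := by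
    intro b c hb hc hcb hcb'
    obtain ⟨s', hs'⟩ := hsurj b c hcb hcb' 1
    have hc' : (QuotientGroup.mk g : Cfsg.POmega F (Cfsg.quadFormOdd m F)) *
        QuotientGroup.mk (T hm (E b) ((1 : F) • E c)) =
        QuotientGroup.mk (T hm (E b) ((1 : F) • E c)) * QuotientGroup.mk g := by
      rw [hg]
      show β (S hm a t) * X hm b c 1 = X hm b c 1 * β (S hm a t)
      rw [← hs', ← map_mul, ← map_mul, comm_SX' hm hb hc t s']
    have h1 := comm_lift hm p (T_pow hm p (E b) ((1 : F) • E c)) hc'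
    have h2 : G * sg (hQ hm) (E b) ((1 : F) • E c) =
        sg (hQ hm) (E b) ((1 : F) • E c) * G := by
      rw [hGdef]
      exact congrArg (fun s : ↥(Cfsg.Omega F (Cfsg.quadFormOdd m F)) =>
        ((s : ↥(Cfsg.isometryGroup F (Cfsg.quadFormOdd m F))) : GL (OI m) F)) h1
    rwa [one_smul] at h2
  -- fixed points
  have fixpt : ∀ b : Fin m ⊕ Fin m, b ≠ a.swap →
      ∃ κ : F, (G : Matrix (OI m) (OI m) F) *ᵥ E b = κ • E b := by
    intro b hb
    obtain ⟨c, hca, hca', hcb, hcb'⟩ := exists_other hm.hm a b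
    have hc'a' : c.swap ≠ a.swap := sw2 hca
    have hc'b : c.swap ≠ b := sw1 hcb'
    have hc'b' : c.swap ≠ b.swap := sw2 hcb
    exact fix_point (hQ hm) G hG (TS_frame hcb') (TS_frame hc'b') (E_ind3 hcb hc'b (swap_ne c))
      (cB b c hb hca' hcb hcb') (cB b c.swap hb hc'a' hc'b hc'b')
  have hrel : ∀ (b c : Fin m ⊕ Fin m) (κb κc : F), b ≠ a.swap → c ≠ a.swap → c ≠ b →
      c ≠ b.swap → (G : Matrix (OI m) (OI m) F) *ᵥ E b = κb • E b →
      (G : Matrix (OI m) (OI m) F) *ᵥ E c = κc • E c → κb * κc = 1 := by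
    intro b c κb κc hb hc hcb hcb' hκb hκc
    obtain ⟨f, hf⟩ := comm_shift (hQ hm) G hG (Q_E b) (E_ne_zero b) hκb
      (by rw [polar_E, E_ne (Ne.symm hcb')]) (cB b c hb hc hcb hcb')
    rw [hκc] at hf
    have h1 := congrFun hf (Sum.inr c)
    simp only [Pi.add_apply, Pi.smul_apply, smul_eq_mul, E_self, E_ne hcb, mul_one, mul_zero,
      add_zero] at h1
    exact h1
  have haa : a ≠ a.swap := Ne.symm (swap_ne a)
  obtain ⟨κ, hκ⟩ := fixpt a haa
  obtain ⟨b0, hb0, hb0', -, -⟩ := exists_other hm.hm a a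
  obtain ⟨c0, hc0, hc0', hcb0, hcb0'⟩ := exists_other hm.hm a b0
  obtain ⟨κb, hκb⟩ := fixpt b0 hb0'
  obtain ⟨κc, hκc⟩ := fixpt c0 hc0'
  have r1 := hrel a b0 κ κb haa hb0' hb0 hb0' hκ hκb
  have r2 := hrel a c0 κ κc haa hc0' hc0 hc0' hκ hκc
  have r3 := hrel b0 c0 κb κc hb0' hc0' hcb0 hcb0' hκb hκc
  have hκκ : κ * κ = 1 := by linear_combination (-(κ * κ)) * r3 + (κ * κc) * r1 + r2
  have hκ0 : κ ≠ 0 := by
    rintro rfl
    simp at hκκ
  have hall : ∀ b : Fin m ⊕ Fin m, b ≠ a.swap →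
      (G : Matrix (OI m) (OI m) F) *ᵥ E b = κ • E b := by
    intro b hb
    by_cases hba : b = a
    · rw [hba]
      exact hκ
    · obtain ⟨κ', hκ'⟩ := fixpt b hb
      have r := hrel a b κ κ' haa hb hba hb hκ hκ'
      have : κ' = κ := by linear_combination κ * r - κ' * hκκ
      rw [hκ', this]
  obtain ⟨y, hy⟩ : ∃ y : OI m → F, y = (G : Matrix (OI m) (OI m) F) *ᵥ e0 := ⟨_, rfl⟩
  have hyd : ∀ d : Fin m ⊕ Fin m, d ≠ a → y (Sum.inr d) = 0 := by
    intro d hd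
    have h1 := polar_of_isom G hG (E d.swap) e0
    rw [hall d.swap (sw2 hd), ← hy, hbl.smul_left, polar_E, Sum.swap_swap, polar_E, e0_inr] at h1
    exact (mul_eq_zero.1 h1).resolve_left hκ0
  obtain ⟨y0, hy0⟩ : ∃ y0 : F, y0 = y (Sum.inl ()) := ⟨_, rfl⟩
  obtain ⟨ya, hya⟩ : ∃ ya : F, ya = y (Sum.inr a) := ⟨_, rfl⟩
  have hy' : y = y0 • (e0 : OI m → F) + ya • E a := by
    funext l
    rcases l with u | d
    · obtain rfl : u = () := rfl
      simp [e0_inl, E_inl, hy0]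
    · by_cases hd : d = a
      · rw [hd]
        simp [e0_inr, E_self, hya]
      · simp [e0_inr, E_ne hd, hyd d hd]
  have hyy : y0 * y0 = 1 := by
    have h1 := hG e0
    rw [← hy, Q_e0, hy', Q_add (Cfsg.quadFormOdd m F), (hQ hm).smul, (hQ hm).smul, Q_e0, Q_E,
      hbl.smul_left, hbl.smul_right, polar_e0, E_inl] at h1
    linear_combination h1
  obtain ⟨w0, hw0⟩ : ∃ w0 : F, w0 = -((y0 + κ) * ya) / 2 := ⟨_, rfl⟩
  have hSE : ∀ b : Fin m ⊕ Fin m, b ≠ a.swap →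
      ((sg (hQ hm) (E a) (w0 • e0) : GL (OI m) F) : Matrix (OI m) (OI m) F) *ᵥ E b = E b := by
    intro b hb
    rw [short_mulVec hm, E_ne (Ne.symm hb), E_inl]
    simp
  have hS0 : ((sg (hQ hm) (E a) (w0 • e0) : GL (OI m) F) : Matrix (OI m) (OI m) F) *ᵥ e0 =
      e0 + ((y0 + κ) * ya) • E a := by
    rw [short_mulVec hm, e0_inr, e0_inl]
    have e : 2 * w0 * 1 = -((y0 + κ) * ya) := by
      rw [hw0]
      field_simp
    rw [e]
    module
  have hGG : ((G * G : GL (OI m) F) : Matrix (OI m) (OI m) F) =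
      (1 : F) • ((sg (hQ hm) (E a) (w0 • e0) : GL (OI m) F) : Matrix (OI m) (OI m) F) := by
    apply iso_scalar_ext hm (G * G) (sg (hQ hm) (E a) (w0 • e0)) _ (sg_isom (hQ hm) _ _) 1
      (one_mul 1) a
    · rw [Units.val_mul, ← Matrix.mulVec_mulVec, ← hy, hy', Matrix.mulVec_add,
        Matrix.mulVec_smul, Matrix.mulVec_smul, ← hy, hκ, hy', hS0, one_smul]
      have e : y0 • (y0 • (e0 : OI m → F) + ya • E a) + ya • κ • E a =
          (y0 * y0) • (e0 : OI m → F) + ((y0 + κ) * ya) • E a := by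
        module
      rw [e, hyy, one_smul]
    · intro k hk
      rw [Units.val_mul, ← Matrix.mulVec_mulVec, hall k hk, Matrix.mulVec_smul, hall k hk,
        hSE k hk, one_smul, smul_smul, hκκ, one_smul]
    · intro v
      rw [Units.val_mul, ← Matrix.mulVec_mulVec, hG, hG]
  have hgg : g * g = T hm (E a) (w0 • e0) := by
    apply omega_ext
    rw [T_coe]
    apply Units.ext
    have e : (((g * g : ↥(Cfsg.Omega F (Cfsg.quadFormOdd m F))) :
        ↥(Cfsg.isometryGroup F (Cfsg.quadFormOdd m F))) : GL (OI m) F) = G * G := by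
      rw [hGdef]
      rfl
    rw [e, hGG, one_smul]
  refine ⟨w0, ?_⟩
  rw [← hg, ← QuotientGroup.mk_mul, hgg]
  rfl

/-- the automorphism acts on the short root groups through the maps `lam` -/
def ActsS (hm : Hy m F) (β : MulAut (Cfsg.POmega F (Cfsg.quadFormOdd m F)))
    (lam : Fin m ⊕ Fin m → F → F) : Prop :=
  ∀ (a : Fin m ⊕ Fin m) (t : F), β (S hm a t) = S hm a (lam a t)

theorem exists_actsS (hm : Hy m F) {β : MulAut (Cfsg.POmega F (Cfsg.quadFormOdd m F))}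
    {φ : Fin m ⊕ Fin m → Fin m ⊕ Fin m → F → F} (h : Acts hm β φ) :
    ∃ lam, ActsS hm β lam := by
  have h' : ∀ (a : Fin m ⊕ Fin m) (t : F), ∃ t' : F, β (S hm a t) = S hm a t' := by
    intro a t
    obtain ⟨t', ht'⟩ := short_sq hm h a (t / 2)
    refine ⟨t', ?_⟩
    rw [← ht', ← map_mul, ← S_add, ← add_div, ← two_mul, mul_div_cancel_left₀ _ hm.h2]
  choose lam hlam using h'
  exact ⟨lam, hlam⟩

namespace ActsS

variable {hm : Hy m F} {β : MulAut (Cfsg.POmega F (Cfsg.quadFormOdd m F))}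
  {φ : Fin m ⊕ Fin m → Fin m ⊕ Fin m → F → F} {lam : Fin m ⊕ Fin m → F → F}

theorem add (hS : ActsS hm β lam) (a : Fin m ⊕ Fin m) (s t : F) :
    lam a (s + t) = lam a s + lam a t := by
  apply S_inj hm a
  rw [← hS a, S_add hm, map_mul, hS a, hS a, ← S_add hm]

theorem zero (hS : ActsS hm β lam) (a : Fin m ⊕ Fin m) : lam a 0 = 0 := by
  have := hS.add a 0 0
  rw [add_zero] at this
  exact left_eq_add.1 this

theorem inj (hS : ActsS hm β lam) (a : Fin m ⊕ Fin m) : Function.Injective (lam a) := by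
  intro s t hst
  apply S_inj hm a
  apply β.injective
  rw [hS a, hS a, hst]

/-- the relation between short and long root groups -/
theorem rel (h : Acts hm β φ) (hS : ActsS hm β lam) {a b : Fin m ⊕ Fin m} (hba : b ≠ a)
    (hba' : b ≠ a.swap) (t u : F) : φ b a (2 * t * u) = 2 * lam a t * lam b u := by
  have hab : a ≠ b := Ne.symm hba
  have hab' : a ≠ b.swap := fun h' => hba' (by rw [h', Sum.swap_swap])
  have h1 := congrArg β (S_rel hm hba hba' t u)
  rw [map_mul, map_mul, map_inv, map_mul, hS a, hS b, h b a hab hab', S_rel hm hba hba'] at h1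
  have h2 := X_inj hm hab hab' (mul_left_cancel h1)
  rw [h.neg hab hab'] at h2
  exact (neg_injective h2).symm

end ActsS

/-- **frame stable automorphisms are induced by semisimilarities** -/
theorem of_frameStable_eq (hm : Hy m F)
    (hsimple : IsSimpleGroup (Cfsg.POmega F (Cfsg.quadFormOdd m F)))
    (β : MulAut (Cfsg.POmega F (Cfsg.quadFormOdd m F))) (hβ : FrameStable hm β) :
    ∃ (c : Fin m → Fˣ) (σ : F ≃+* F), β = Phi (Cfsg.quadFormOdd m F) (dg c) * cσ σ := by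
  obtain ⟨φ, h⟩ := exists_acts hm β hβ
  obtain ⟨lam, hS⟩ := exists_actsS hm h
  have h2 := hm.h2
  obtain ⟨d, hd⟩ : ∃ d : Fin m ⊕ Fin m → F, d = fun a => lam a 1 := ⟨_, rfl⟩
  have hd' : ∀ a, d a = lam a 1 := fun a => by rw [hd]
  have hd0 : ∀ a, d a ≠ 0 := by
    intro a h0
    rw [hd', ← hS.zero a] at h0
    exact one_ne_zero (hS.inj a h0)
  have hprop : ∀ a b : Fin m ⊕ Fin m, b ≠ a → b ≠ a.swap → ∀ t : F,
      lam a t * d b = d a * lam b t := by
    intro a b hba hba' t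
    have e1 := hS.rel h hba hba' t 1
    have e2 := hS.rel h hba hba' 1 t
    rw [mul_one] at e1
    rw [mul_one] at e2
    rw [e1] at e2
    rw [hd', hd']
    apply mul_left_cancel₀ h2
    linear_combination e2
  obtain ⟨o, ho⟩ : ∃ o : Fin m ⊕ Fin m, o = Sum.inl ⟨0, by have := hm.hm; omega⟩ := ⟨_, rfl⟩
  obtain ⟨σ₀, hσ₀⟩ : ∃ σ₀ : F → F, σ₀ = fun t => lam o t / d o := ⟨_, rfl⟩
  have hσ : ∀ t, σ₀ t = lam o t / d o := fun t => by rw [hσ₀]
  have hlam : ∀ a t, lam a t = d a * σ₀ t := by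
    have key : ∀ a : Fin m ⊕ Fin m, a ≠ o → a ≠ o.swap → ∀ t, lam a t = d a * σ₀ t := by
      intro a ha ha' t
      have e := hprop o a ha ha' t
      rw [hσ, mul_div_assoc', eq_div_iff (hd0 o)]
      linear_combination -e
    intro a t
    by_cases ha : a = o
    · rw [ha, hσ, mul_div_assoc', mul_div_cancel_left₀ _ (hd0 o)]
    by_cases ha' : a = o.swap
    · obtain ⟨b, hb, hb', -, -⟩ := exists_other hm.hm o o
      have e := hprop a b (by rw [ha']; exact hb') (by rw [ha', Sum.swap_swap]; exact hb) t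
      rw [key b hb hb' t] at e
      apply mul_right_cancel₀ (hd0 b)
      linear_combination e
    exact key a ha ha' t
  have hσ1 : σ₀ 1 = 1 := by rw [hσ, ← hd', div_self (hd0 o)]
  have hσadd : ∀ s t, σ₀ (s + t) = σ₀ s + σ₀ t := by
    intro s t
    rw [hσ, hσ, hσ, hS.add, add_div]
  have hσ0 : σ₀ 0 = 0 := by rw [hσ, hS.zero, zero_div]
  have hσinj : Function.Injective σ₀ := by
    intro s t hst
    rw [hσ, hσ] at hst
    apply hS.inj o
    exact (div_left_inj' (hd0 o)).1 hst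
  have hφ2 : ∀ a b : Fin m ⊕ Fin m, b ≠ a → b ≠ a.swap → ∀ t u : F,
      φ b a (2 * t * u) = 2 * (d a * d b) * (σ₀ t * σ₀ u) := by
    intro a b hba hba' t u
    rw [hS.rel h hba hba', hlam a t, hlam b u]
    ring
  have hσmul : ∀ s t, σ₀ (s * t) = σ₀ s * σ₀ t := by
    intro s t
    obtain ⟨b, hb, hb', -, -⟩ := exists_other hm.hm o o
    have e1 := hφ2 o b hb hb' (s * t) 1
    have e2 := hφ2 o b hb hb' s t
    have e3 : 2 * (s * t) * 1 = 2 * s * t := by ring
    rw [e3, e2, hσ1, mul_one] at e1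
    have hne : 2 * (d o * d b) ≠ 0 := mul_ne_zero h2 (mul_ne_zero (hd0 o) (hd0 b))
    exact (mul_left_cancel₀ hne e1).symm
  have hφ : ∀ a b : Fin m ⊕ Fin m, b ≠ a → b ≠ a.swap → ∀ x : F,
      φ b a x = d a * d b * σ₀ x := by
    intro a b hba hba' x
    have e1 := hφ2 a b hba hba' (x / 2) 1
    have e3 : 2 * (x / 2) * 1 = x := by field_simp
    rw [e3, hσ1, mul_one] at e1
    have e4 : σ₀ x = 2 * σ₀ (x / 2) := by
      rw [two_mul, ← hσadd, ← add_div, ← two_mul, mul_div_cancel_left₀ _ h2]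
    rw [e1, e4]
    ring
  have hdd : ∀ a : Fin m ⊕ Fin m, d a * d a.swap = 1 := by
    intro a
    obtain ⟨b, hb, hb', -, -⟩ := exists_other hm.hm a a
    obtain ⟨c, hc, hc', hcb, hcb'⟩ := exists_other hm.hm a b
    have e := h.rel hb hb' hc hc' hcb hcb' 1 1
    have e' : d c * d b * σ₀ (1 * 1) = d b * d a * σ₀ 1 * (d c * d a.swap * σ₀ 1) := by
      rw [← hφ c b (Ne.symm hcb) (fun h' => hcb' (by rw [h', Sum.swap_swap])),
        ← hφ b a (Ne.symm hb) (fun h' => hb' (by rw [h', Sum.swap_swap])),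
        ← hφ c a.swap (Ne.symm hc') (fun h' => hc (swap_inj h').symm)]
      exact e
    rw [mul_one, hσ1] at e'
    have hne : d c * d b ≠ 0 := mul_ne_zero (hd0 c) (hd0 b)
    apply mul_left_cancel₀ hne
    linear_combination -e'
  have hbij : Function.Bijective σ₀ := ⟨hσinj, Finite.injective_iff_surjective.1 hσinj⟩
  obtain ⟨f, hf⟩ : ∃ f : F →+* F, ∀ t, f t = σ₀ t :=
    ⟨{ toFun := σ₀, map_one' := hσ1, map_mul' := hσmul, map_zero' := hσ0, map_add' := hσadd },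
      fun _ => rfl⟩
  have hfb : Function.Bijective f := by
    have : (f : F → F) = σ₀ := funext hf
    rw [this]
    exact hbij
  obtain ⟨σ, hσeq⟩ : ∃ σ : F ≃+* F, ∀ t, σ t = σ₀ t :=
    ⟨RingEquiv.ofBijective f hfb, fun t => hf t⟩
  obtain ⟨c, hc⟩ : ∃ c : Fin m → Fˣ, ∀ i, (c i : F) = d (Sum.inl i) :=
    ⟨fun i => Units.mk0 (d (Sum.inl i)) (hd0 _), fun i => rfl⟩
  have hdv : ∀ a : Fin m ⊕ Fin m, (dv c (Sum.inr a) : F) = d a := by
    intro a
    rcases a with i | i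
    · exact hc i
    · show (((c i)⁻¹ : Fˣ) : F) = d (Sum.inr i)
      rw [Units.val_inv_eq_inv_val, hc i]
      exact inv_eq_of_mul_eq_one_right (hdd (Sum.inl i))
  refine ⟨c, σ, ?_⟩
  have hfixX : ∀ a b : Fin m ⊕ Fin m, b ≠ a → b ≠ a.swap → ∀ t : F,
      ((Phi (Cfsg.quadFormOdd m F) (dg c) * cσ σ)⁻¹ * β :
        MulAut (Cfsg.POmega F (Cfsg.quadFormOdd m F))) (X hm a b t) = X hm a b t := by
    intro a b hab hab' t
    rw [MulAut.mul_apply, h a b hab hab', MulAut.inv_apply, MulEquiv.symm_apply_eq,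
      MulAut.mul_apply, cσ_X, Phi_dg_X hm c hab', hdv, hdv, hσeq]
    congr 1
    rw [hφ b a (Ne.symm hab) (fun h' => hab' (by rw [h', Sum.swap_swap]))]
    ring
  have hfixS : ∀ (a : Fin m ⊕ Fin m) (t : F),
      ((Phi (Cfsg.quadFormOdd m F) (dg c) * cσ σ)⁻¹ * β :
        MulAut (Cfsg.POmega F (Cfsg.quadFormOdd m F))) (S hm a t) = S hm a t := by
    intro a t
    rw [MulAut.mul_apply, hS a, MulAut.inv_apply, MulEquiv.symm_apply_eq, MulAut.mul_apply,
      cσ_S, Phi_dg_S, hdv, hσeq, hlam]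
  have h3 := rigid hm hsimple _ hfixX hfixS
  have h4 := congrArg (fun x => (Phi (Cfsg.quadFormOdd m F) (dg c) * cσ σ) * x) h3
  simp only [mul_inv_cancel_left, mul_one] at h4
  exact h4

theorem of_frameStable (hm : Hy m F)
    (hsimple : IsSimpleGroup (Cfsg.POmega F (Cfsg.quadFormOdd m F)))
    (β : MulAut (Cfsg.POmega F (Cfsg.quadFormOdd m F))) (h : FrameStable hm β) :
    β ∈ Cfsg.gammaPOmega F (Cfsg.quadFormOdd m F) := by
  obtain ⟨c, σ, rfl⟩ := of_frameStable_eq hm hsimple β h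
  exact Subgroup.mul_mem _ (Phi_mem _) (cσ_mem σ)

/-- **the automorphism group of `PΩ_{2m+1}(q)`, `q` odd, `m ≥ 3`** -/
theorem gamma_eq_top (hm : Hy m F)
    (hsimple : IsSimpleGroup (Cfsg.POmega F (Cfsg.quadFormOdd m F))) :
    Cfsg.gammaPOmega F (Cfsg.quadFormOdd m F) = ⊤ := by
  rw [eq_top_iff]
  intro α _
  obtain ⟨g, hg⟩ := frame_normal hm α
  have h1 := of_frameStable hm hsimple _ hg
  have h2 := Subgroup.mul_mem _ (Phi_mem g) h1
  rwa [mul_inv_cancel_left] at h2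

end Cfsg.Agent.Lib.Helper43.OOdFrame
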