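import Mathlib
import Cfsg.Agent.Lib.Helper44.PGStmt
import Cfsg.Agent.Lib.Helper43.BCFORMS

set_option autoImplicit false

/-! S2474 piece GDEC: `BCStmt.Decomp` for an arbitrary nondegenerate bilinear form with Gram
matrix `G`. -/

namespace Cfsg.Agent.Lib.Helper43.PGGDEC

open Matrix Polynomial
open Cfsg.Agent.Lib.Helper44.QSpace Cfsg.Agent.Lib.Helper44.OGroup Cfsg.Agent.Lib.Helper44.OMat
open Cfsg.Agent.Lib.Helper44.OExt Cfsg.Agent.Lib.Helper44.BCStmt Cfsg.Agent.Lib.Helper44.PGStmt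
open Cfsg.Agent.Lib.Helper43.BCFORMS

universe u

section
variable {F : Type u} [Field F] {ι : Type} [Fintype ι] [DecidableEq ι]

/-- the bilinear form with Gram matrix `G` -/
noncomputable def BG (G : Matrix ι ι F) : LinearMap.BilinForm F (ι → F) := Matrix.toBilin' G

theorem BG_apply (G : Matrix ι ι F) (a b : ι → F) : BG G a b = a ⬝ᵥ G *ᵥ b := by
  unfold BG
  rw [Matrix.toBilin'_apply']

theorem mat_ext_bil {κ : Type} [Fintype κ] [DecidableEq κ] {M N : Matrix κ κ F}
    (h : ∀ u w : κ → F, u ⬝ᵥ M *ᵥ w = u ⬝ᵥ N *ᵥ w) : M = N := by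
  apply (Matrix.toBilin' (R₁ := F) (n := κ)).injective
  refine LinearMap.ext fun u => LinearMap.ext fun w => ?_
  rw [Matrix.toBilin'_apply', Matrix.toBilin'_apply']
  exact h u w

theorem dot_transpose {κ : Type} [Fintype κ] (M : Matrix κ κ F) (u w : κ → F) :
    u ⬝ᵥ Mᵀ *ᵥ w = w ⬝ᵥ M *ᵥ u := by
  rw [Matrix.mulVec_transpose, dotProduct_comm, ← Matrix.dotProduct_mulVec]

/-- the Gram matrix of the pulled-back form -/
noncomputable def gramG (G : Matrix ι ι F) {κ : Type} [Fintype κ] [DecidableEq κ]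
    (j : (κ → F) →ₗ[F] (ι → F)) : Matrix κ κ F :=
  LinearMap.BilinForm.toMatrix' (LinearMap.BilinForm.comp (BG G) j j)

theorem gramG_apply (G : Matrix ι ι F) {κ : Type} [Fintype κ] [DecidableEq κ]
    (j : (κ → F) →ₗ[F] (ι → F)) (v v' : κ → F) :
    v ⬝ᵥ (gramG G j) *ᵥ v' = BG G (j v) (j v') := by
  unfold gramG
  rw [← Matrix.toBilin'_apply', Matrix.toBilin'_toMatrix', LinearMap.BilinForm.comp_apply]

theorem det_gramG (G : Matrix ι ι F) {κ : Type} [Fintype κ] [DecidableEq κ]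
    (j : (κ → F) →ₗ[F] (ι → F))
    (h : ∀ y, (∀ x, BG G (j x) (j y) = 0) → y = 0) : (gramG G j).det ≠ 0 := by
  intro hdet
  obtain ⟨v, hv0, hv⟩ := Matrix.exists_mulVec_eq_zero_iff.mpr hdet
  apply hv0
  apply h
  intro x
  rw [← gramG_apply, hv, dotProduct_zero]

theorem gramG_transpose (G : Matrix ι ι F) {κ : Type} [Fintype κ] [DecidableEq κ]
    (j : (κ → F) →ₗ[F] (ι → F)) (ε : F) (hG : Gᵀ = ε • G) :
    (gramG G j)ᵀ = ε • gramG G j := by
  apply mat_ext_bil
  intro u w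
  rw [dot_transpose, gramG_apply, Matrix.smul_mulVec, dotProduct_smul, gramG_apply, BG_apply,
    BG_apply, ← dot_transpose G, hG, Matrix.smul_mulVec, dotProduct_smul]

end

theorem main : Split.{u} → GDecomp.{u} := by
  intro hSplit F _ ι _ _ G T r hdet hGT hr hrF hTr
  obtain ⟨k₁, k₂, T₂, J, hfix, hT⟩ := hSplit F ι T r hr hrF hTr
  let j1 : (Fin k₁ → F) →ₗ[F] (ι → F) := J.toLinearMap ∘ₗ inlL k₁ k₂
  let j2 : (Fin k₂ → F) →ₗ[F] (ι → F) := J.toLinearMap ∘ₗ inrL k₁ k₂
  have hj1 : ∀ v, j1 v = J (Sum.elim v 0) := fun v => rfl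
  have hj2 : ∀ v, j2 v = J (Sum.elim 0 v) := fun v => rfl
  have hJ : ∀ u, J u = j1 (u ∘ Sum.inl) + j2 (u ∘ Sum.inr) := by
    intro u
    conv_lhs => rw [split_eq k₁ k₂ u]
    rw [map_add]
    rfl
  have hj1inj : Function.Injective j1 := fun a b hab =>
    inlL_inj k₁ k₂ (J.injective hab)
  have hj2inj : Function.Injective j2 := fun a b hab =>
    inrL_inj k₁ k₂ (J.injective hab)
  have hT1 : ∀ v, T *ᵥ j1 v = j1 v := by
    intro v
    rw [hj1, hT]
    simp
  have hT2 : ∀ w, T *ᵥ j2 w = j2 (T₂ *ᵥ w) := by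
    intro w
    rw [hj2, hj2, hT]
    simp
  have hpol : ∀ x y, BG G (T *ᵥ x) (T *ᵥ y) = BG G x y := by
    intro x y
    rw [BG_apply, BG_apply, mulVec_dot, Matrix.mulVec_mulVec, Matrix.mulVec_mulVec, hGT]
  have hsurj : ∀ w : Fin k₂ → F, ∃ w' : Fin k₂ → F, T₂ *ᵥ w' - w' = w := by
    have hinj : Function.Injective (T₂ - 1).mulVecLin := by
      rw [← LinearMap.ker_eq_bot, LinearMap.ker_eq_bot']
      intro v hv
      rw [Matrix.mulVecLin_apply, sub_mulVec, one_mulVec, sub_eq_zero] at hv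
      exact hfix v hv
    have hs := LinearMap.injective_iff_surjective.mp hinj
    intro w
    obtain ⟨w', hw'⟩ := hs w
    refine ⟨w', ?_⟩
    rw [Matrix.mulVecLin_apply, sub_mulVec, one_mulVec] at hw'
    exact hw'
  have horth : ∀ v w, BG G (j1 v) (j2 w) = 0 := by
    intro v w
    obtain ⟨w', rfl⟩ := hsurj w
    rw [map_sub, ← hT2, map_sub]
    have : BG G (j1 v) (T *ᵥ j2 w') = BG G (j1 v) (j2 w') := by
      conv_lhs => rw [← hT1 v]
      exact hpol _ _
    rw [this, sub_self]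
  have horth' : ∀ v w, BG G (j2 w) (j1 v) = 0 := by
    intro v w
    obtain ⟨w', rfl⟩ := hsurj w
    rw [map_sub, ← hT2, map_sub, LinearMap.sub_apply]
    have : BG G (T *ᵥ j2 w') (j1 v) = BG G (j2 w') (j1 v) := by
      conv_lhs => rw [← hT1 v]
      exact hpol _ _
    rw [this, sub_self]
  have hpow : ∀ (n : ℕ) (w : Fin k₂ → F), (T ^ n) *ᵥ j2 w = j2 ((T₂ ^ n) *ᵥ w) := by
    intro n
    induction n with
    | zero => intro w; simp
    | succ n ih =>
      intro w
      rw [pow_succ, pow_succ, ← mulVec_mulVec, hT2, ih, mulVec_mulVec]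
  have hnd : ∀ z : ι → F, (∀ x, BG G x z = 0) → z = 0 := by
    intro z hz
    apply Matrix.eq_zero_of_mulVec_eq_zero hdet
    funext i
    have := hz (Pi.single i 1)
    rw [BG_apply, single_one_dotProduct] at this
    exact this
  refine ⟨k₁, k₂, gramG G j1, gramG G j2, T₂, J, ?_, ?_, ?_, ?_, hfix, ?_, hT, ?_, ?_⟩
  · apply det_gramG
    intro y hy
    apply hj1inj
    rw [map_zero]
    apply hnd
    intro z
    obtain ⟨u, rfl⟩ := J.surjective z
    rw [hJ, map_add, LinearMap.add_apply, hy, horth', add_zero]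
  · apply det_gramG
    intro y hy
    apply hj2inj
    rw [map_zero]
    apply hnd
    intro z
    obtain ⟨u, rfl⟩ := J.surjective z
    rw [hJ, map_add, LinearMap.add_apply, hy, horth, add_zero]
  · apply mat_ext_bil
    intro u w
    rw [← Matrix.mulVec_mulVec, ← Matrix.mulVec_mulVec, ← mulVec_dot, gramG_apply, gramG_apply,
      ← hT2, ← hT2, hpol]
  · apply matrix_ext_mulVec
    intro w
    apply hj2inj
    rw [← hpow, hTr, one_mulVec, one_mulVec]
  · intro u w
    rw [← BG_apply, hJ u, hJ w, gramG_apply, gramG_apply]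
    simp only [map_add, LinearMap.add_apply]
    rw [horth, horth']
    ring
  · intro hG
    have hG' : Gᵀ = (-1 : F) • G := by rw [hG, neg_smul, one_smul]
    refine ⟨?_, ?_⟩
    · rw [gramG_transpose G j1 (-1) hG', neg_smul, one_smul]
    · rw [gramG_transpose G j2 (-1) hG', neg_smul, one_smul]
  · intro hG
    have hG' : Gᵀ = (1 : F) • G := by rw [hG, one_smul]
    refine ⟨?_, ?_⟩
    · rw [gramG_transpose G j1 1 hG', one_smul]
    · rw [gramG_transpose G j2 1 hG', one_smul]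

end Cfsg.Agent.Lib.Helper43.PGGDEC
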