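import Mathlib
import Cfsg.Agent.Lib.Helper44.PGStmt
import Cfsg.Agent.Lib.Helper42.SpOrdC

set_option autoImplicit false

/-! S2474 piece OTP: the non-split torus of the orthogonal group of a `2k`-dimensional space. -/

namespace Cfsg.Agent.Lib.Helper43.PGOTP

open Matrix
open Cfsg.Agent.Lib.Helper44.OExt Cfsg.Agent.Lib.Helper44.OMat Cfsg.Agent.Lib.Helper44.PGStmt

universe u

section
variable {F : Type u} [Field F]

/-- Abstract version: a finite separable extension `E` with an involution `σ` and a unit `ζ` of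
norm one, `ζ * σ ζ = 1`. -/
theorem core {E : Type*} [Field E] [Algebra F E] [FiniteDimensional F E]
    [Algebra.IsSeparable F E] (h2 : (2 : F) ≠ 0) (σ : E ≃ₐ[F] E) (hσ : ∀ x, σ (σ x) = x)
    (n : ℕ) (hn : Module.finrank F E = n) (ζ : E) (hζ : ζ * σ ζ = 1) :
    ∃ (N s : Matrix (Fin n) (Fin n) F), (N + Nᵀ).det ≠ 0 ∧
      (∀ u, qN N (s *ᵥ u) = qN N u) ∧ ∀ j : ℕ, s ^ j = 1 ↔ ζ ^ j = 1 := by
  obtain ⟨b⟩ : Nonempty (Module.Basis (Fin n) F E) := ⟨Module.finBasisOfFinrankEq F E hn⟩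
  obtain ⟨e, -⟩ : ∃ e : E ≃ₗ[F] (Fin n → F), e = b.equivFun := ⟨_, rfl⟩
  -- the form
  obtain ⟨BF, hBF⟩ : ∃ BF : LinearMap.BilinForm F (Fin n → F),
      ∀ u v, BF u v = Algebra.trace F E (e.symm u * σ (e.symm v)) := by
    refine ⟨(Algebra.traceForm F E).compl₁₂ e.symm.toLinearMap
      (σ.toLinearMap ∘ₗ e.symm.toLinearMap), fun u v => ?_⟩
    rw [LinearMap.compl₁₂_apply, Algebra.traceForm_apply]
    rfl
  have hsym : ∀ u v, BF u v = BF v u := by
    intro u v
    rw [hBF, hBF, ← Algebra.trace_eq_of_algEquiv σ (e.symm u * σ (e.symm v)), map_mul, hσ,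
      mul_comm]
  obtain ⟨G, hG⟩ : ∃ G : Matrix (Fin n) (Fin n) F, G = LinearMap.BilinForm.toMatrix' BF :=
    ⟨_, rfl⟩
  have hGdot : ∀ u v, u ⬝ᵥ G *ᵥ v = BF u v := by
    intro u v
    rw [hG, ← Matrix.toBilin'_apply', Matrix.toBilin'_toMatrix']
  have hGt : Gᵀ = G := by
    ext i j
    rw [Matrix.transpose_apply, hG, LinearMap.BilinForm.toMatrix'_apply,
      LinearMap.BilinForm.toMatrix'_apply, hsym]
  have hGdet : G.det ≠ 0 := by
    intro hdet
    obtain ⟨v, hv0, hv⟩ := Matrix.exists_mulVec_eq_zero_iff.mpr hdet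
    apply hv0
    have h1 : ∀ x : E, Algebra.traceForm F E x (σ (e.symm v)) = 0 := by
      intro x
      have h3 := hGdot (e x) v
      rw [hv, dotProduct_zero, hBF, LinearEquiv.symm_apply_apply] at h3
      rw [Algebra.traceForm_apply]
      exact h3.symm
    have h4 := (traceForm_nondegenerate F E).2 _ h1
    have h5 : e.symm v = 0 := by
      have := congrArg σ h4
      rw [hσ, map_zero] at this
      exact this
    have := congrArg e h5
    rw [LinearEquiv.apply_symm_apply, map_zero] at this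
    exact this
  obtain ⟨N, hN⟩ : ∃ N : Matrix (Fin n) (Fin n) F, N = (2⁻¹ : F) • G := ⟨_, rfl⟩
  have hNN : N + Nᵀ = G := by
    rw [hN, Matrix.transpose_smul, hGt, ← add_smul]
    have : (2⁻¹ : F) + 2⁻¹ = 1 := by
      field_simp
      norm_num
    rw [this, one_smul]
  have hqN : ∀ u, qN N u = 2⁻¹ * BF u u := by
    intro u
    rw [qN_apply, hN, Matrix.smul_mulVec, dotProduct_smul, hGdot, smul_eq_mul]
  -- the isometry
  obtain ⟨s, hs⟩ : ∃ s : Matrix (Fin n) (Fin n) F,
      s = LinearMap.toMatrix' (e.toLinearMap ∘ₗ LinearMap.mulLeft F ζ ∘ₗ e.symm.toLinearMap) :=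
    ⟨_, rfl⟩
  have hsv : ∀ u, s *ᵥ u = e (ζ * e.symm u) := by
    intro u
    rw [hs, ← Matrix.toLin'_apply, Matrix.toLin'_toMatrix']
    rfl
  have hspow : ∀ (j : ℕ) u, (s ^ j) *ᵥ u = e (ζ ^ j * e.symm u) := by
    intro j
    induction j with
    | zero =>
      intro u
      rw [pow_zero, pow_zero, one_mulVec, one_mul, LinearEquiv.apply_symm_apply]
    | succ j ih =>
      intro u
      rw [pow_succ, ← mulVec_mulVec, ih, hsv, LinearEquiv.symm_apply_apply, ← mul_assoc,
        ← pow_succ]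
  refine ⟨N, s, ?_, ?_, ?_⟩
  · rw [hNN]
    exact hGdet
  · intro u
    rw [hqN, hqN, hBF, hBF, hsv, LinearEquiv.symm_apply_apply, map_mul σ]
    have : ζ * e.symm u * (σ ζ * σ (e.symm u)) = (ζ * σ ζ) * (e.symm u * σ (e.symm u)) := by
      ring
    rw [this, hζ, one_mul]
  · intro j
    constructor
    · intro h
      have h1 := hspow j (e 1)
      rw [h, one_mulVec, LinearEquiv.symm_apply_apply, mul_one] at h1
      exact (e.injective h1).symm
    · intro h
      apply matrix_ext_mulVec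
      intro u
      rw [hspow, h, one_mul, LinearEquiv.apply_symm_apply, one_mulVec]

end

theorem main : OTorPlus.{u} := by
  intro F _ _ h2 k K hk hK
  obtain ⟨p, hp⟩ := CharP.exists F
  haveI : Fact p.Prime := ⟨CharP.char_is_prime F p⟩
  haveI hne : NeZero (2 * k) := ⟨by omega⟩
  have hq : 1 < Fintype.card F := Fintype.one_lt_card
  have hdvd : Fintype.card F ^ k + 1 ∣ Fintype.card F ^ (2 * k) - 1 := by
    obtain ⟨t, ht⟩ : ∃ t, Fintype.card F ^ k = t + 1 :=
      ⟨Fintype.card F ^ k - 1, by have := Nat.one_le_pow k (Fintype.card F) (by omega); omega⟩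
    refine ⟨t, ?_⟩
    rw [mul_comm 2 k, pow_mul, ht]
    have : (t + 1) ^ 2 = (t + 1 + 1) * t + 1 := by ring
    omega
  obtain ⟨ζ, hζ⟩ := Cfsg.Agent.Lib.Helper42.SpOrdC.exists_unit_order p (2 * k) K (hK.trans hdvd)
  have hζw : (ζ : FiniteField.Extension F p (2 * k)) ^ (Fintype.card F ^ k + 1) = 1 := by
    rw [← Units.val_pow_eq_pow_val, orderOf_dvd_iff_pow_eq_one.mp (hζ ▸ hK), Units.val_one]
  obtain ⟨σ, hσdef⟩ : ∃ σ : FiniteField.Extension F p (2 * k) ≃ₐ[F]
      FiniteField.Extension F p (2 * k), σ = FiniteField.Extension.frob F p (2 * k) ^ k :=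
    ⟨_, rfl⟩
  have hσa : ∀ x, σ x = x ^ (Fintype.card F ^ k) := by
    intro x
    rw [hσdef, FiniteField.Extension.frob_iterate_apply, Nat.card_eq_fintype_card]
  have hσσ : ∀ x, σ (σ x) = x := by
    intro x
    rw [hσa, hσa, ← pow_mul, ← pow_add]
    have h1 : Fintype.card F ^ (k + k) = Nat.card (FiniteField.Extension F p (2 * k)) := by
      rw [FiniteField.natCard_extension, Nat.card_eq_fintype_card, two_mul]
    rw [h1]
    have := Fintype.ofFinite (FiniteField.Extension F p (2 * k))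
    rw [Nat.card_eq_fintype_card]
    exact FiniteField.pow_card x
  have hζσ : (ζ : FiniteField.Extension F p (2 * k)) * σ ζ = 1 := by
    rw [hσa, ← pow_succ']
    exact hζw
  obtain ⟨N, s, hdet, hiso, hpow⟩ := core h2 σ hσσ (2 * k)
    (FiniteField.finrank_extension F p (2 * k)) (ζ : FiniteField.Extension F p (2 * k)) hζσ
  refine ⟨Fin (2 * k), inferInstance, inferInstance, N, s, by rw [Fintype.card_fin], hdet, hiso,
    fun j => ?_⟩
  rw [hpow j, ← hζ, orderOf_dvd_iff_pow_eq_one, ← Units.val_pow_eq_pow_val]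
  constructor
  · intro h
    exact Units.ext (by rw [h, Units.val_one])
  · intro h
    rw [h, Units.val_one]

end Cfsg.Agent.Lib.Helper43.PGOTP
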