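import Mathlib
import Cfsg.Agent.Lib.Helper45.S8Stmt
import Cfsg.Agent.Lib.Helper44.Der5

set_option autoImplicit false

/-! S3589 piece MBL: an isometry of order `q^(n+1) + 1` of the minus-type form of dimension
`2n + 2` (characteristic 2). -/

namespace Cfsg.Agent.Lib.Helper43.S8MBL

open Module QuadraticMap
open Cfsg.Agent.Lib.Helper44.QSpace Cfsg.Agent.Lib.Helper44.OGroup
open Cfsg.Agent.Lib.Helper44.NegPairs Cfsg.Agent.Lib.Helper44.QClass
open Cfsg.Agent.Lib.Helper44.Der5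
open Cfsg.Agent.Lib.Helper45 Cfsg.Agent.Lib.Helper44

universe u

theorem main : S8Stmt.MBL.{u} := by
  intro F _ _ _ a b hab n
  classical
  have : NeZero (2 * (n + 1)) := ⟨by omega⟩
  have hfin : finrank F (FiniteField.Extension F 2 (2 * (n + 1))) = 2 * (n + 1) :=
    FiniteField.finrank_extension F 2 _
  obtain ⟨θ, hθ⟩ := exists_theta F (n + 1)
  have hσ := sig_sig F (n + 1)
  obtain ⟨g, hg⟩ := IsCyclic.exists_ofOrder_eq_natCard
    (α := (FiniteField.Extension F 2 (2 * (n + 1)))ˣ)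
  obtain ⟨A, hA⟩ : ∃ A : ℕ, A = Fintype.card F ^ (n + 1) := ⟨_, rfl⟩
  have hcard : Nat.card (FiniteField.Extension F 2 (2 * (n + 1)))ˣ = (A - 1) * (A + 1) := by
    rw [hA]
    exact card_units_ext F (n + 1)
  have hq1 : 1 < Fintype.card F := Fintype.one_lt_card
  have hA2 : 2 ≤ A := by
    rw [hA]
    exact Nat.one_lt_pow (by omega) hq1
  have hAeven : Even A := by
    rw [hA]
    have h1 : Even (Fintype.card F) :=
      Nat.even_iff.mpr (FiniteField.even_card_of_char_two (ringChar.eq F 2))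
    exact h1.pow_of_ne_zero (by omega)
  -- `ζ` of order `A + 1`
  obtain ⟨ζ, hζdef⟩ : ∃ ζ : (FiniteField.Extension F 2 (2 * (n + 1)))ˣ, ζ = g ^ (A - 1) :=
    ⟨_, rfl⟩
  have hζord : orderOf ζ = A + 1 := by
    rw [hζdef, orderOf_pow' g (by omega), hg, hcard,
      Nat.gcd_eq_right (Dvd.intro _ rfl)]
    exact Nat.mul_div_cancel_left _ (by omega)
  have hpowσ : ∀ u : (FiniteField.Extension F 2 (2 * (n + 1)))ˣ, u ^ (A + 1) = 1 →
      (u : FiniteField.Extension F 2 (2 * (n + 1))) * sig F (n + 1) u = 1 := by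
    intro u hu
    rw [sig_apply, ← hA, ← pow_succ', ← Units.val_pow_eq_pow_val, hu, Units.val_one]
  have hζA : ζ ^ (A + 1) = 1 := by rw [← hζord]; exact pow_orderOf_eq_one ζ
  have hζσ := hpowσ ζ hζA
  obtain ⟨Q', hQ'⟩ : ∃ Q' : QuadraticForm F (FiniteField.Extension F 2 (2 * (n + 1))),
      Q' = trQ (sig F (n + 1)) θ := ⟨_, rfl⟩
  have hS' : Sep Q' := by rw [hQ']; exact sep_trQ hσ hθ
  have hX₀ : Der2.mulE F ζ ∈ O Q' := by rw [hQ']; exact mulE_mem ζ hζσ
  have hmul1 : Der2.mulE F (1 : (FiniteField.Extension F 2 (2 * (n + 1)))ˣ) = 1 := by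
    have := mulE_pow (F := F) ζ 0
    rw [pow_zero, pow_zero] at this
    exact this.symm
  -- an odd prime divisor of `A + 1`
  obtain ⟨r, hrdef⟩ : ∃ r : ℕ, r = Nat.minFac (A + 1) := ⟨_, rfl⟩
  have hrp : r.Prime := by rw [hrdef]; exact Nat.minFac_prime (by omega)
  haveI : Fact r.Prime := ⟨hrp⟩
  have hrdvd : r ∣ A + 1 := by rw [hrdef]; exact Nat.minFac_dvd _
  have hodd : r ≠ 2 := by
    intro h2
    rw [h2] at hrdvd
    have h3 : Even (A + 1) := even_iff_two_dvd.mpr hrdvd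
    rcases hAeven with ⟨c, hc⟩
    rcases h3 with ⟨c', hc'⟩
    omega
  obtain ⟨t, ht⟩ := hrdvd
  have ht0 : 0 < t := by
    rcases Nat.eq_zero_or_pos t with h | h
    · rw [h, mul_zero] at ht; omega
    · exact h
  obtain ⟨ζ', hζ'def⟩ : ∃ ζ' : (FiniteField.Extension F 2 (2 * (n + 1)))ˣ, ζ' = ζ ^ t :=
    ⟨_, rfl⟩
  have hζ'r : ζ' ^ r = 1 := by
    rw [hζ'def, ← pow_mul, show t * r = A + 1 by rw [ht, Nat.mul_comm], hζA]
  have hζ'A : ζ' ^ (A + 1) = 1 := by
    rw [hζ'def, ← pow_mul, Nat.mul_comm t (A + 1), pow_mul, hζA, one_pow]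
  have hζ'ne : ζ' ≠ 1 := by
    intro h1
    rw [hζ'def] at h1
    have h2 : orderOf ζ ∣ t := orderOf_dvd_of_pow_eq_one h1
    rw [hζord, ht] at h2
    have h3 := Nat.le_of_dvd ht0 h2
    have h4 : 2 ≤ r := hrp.two_le
    nlinarith
  have hζ'2 : ζ' * ζ' ≠ 1 := by
    intro h
    apply hζ'ne
    have h2 : orderOf ζ' ∣ 2 := orderOf_dvd_of_pow_eq_one (by rw [pow_two]; exact h)
    have h3 : orderOf ζ' ∣ r := orderOf_dvd_of_pow_eq_one hζ'r
    have h4 : orderOf ζ' ∣ Nat.gcd 2 r := Nat.dvd_gcd h2 h3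
    have h5 : Nat.gcd 2 r = 1 := by
      rw [Nat.coprime_primes Nat.prime_two hrp |>.mpr (Ne.symm hodd)]
    rw [h5, Nat.dvd_one] at h4
    exact orderOf_eq_one_iff.mp h4
  have hζ'σ := hpowσ ζ' hζ'A
  have hX' : Der2.mulE F ζ' ∈ O Q' := by rw [hQ']; exact mulE_mem ζ' hζ'σ
  have hX'r : Der2.mulE F ζ' ^ r = 1 := by rw [mulE_pow, hζ'r, hmul1]
  have hdvd : r ∣ Fintype.card F ^ (n + 1) + 1 := by rw [← hA]; exact ⟨t, ht⟩
  rcases exists_hyp_even n _ Q' hfin hS' with ⟨e, f, hH⟩ | ⟨e, f, x, y, ζ'', hH, hE, horth⟩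
  · exfalso
    exact not_hyp_of_free Q' hH hfin hodd hdvd _ hX' hX'r
      (fun v hv h => mulE_no_eigen (σ := sig F (n + 1)) ζ' hζ'σ hζ'2 v hv 1
        (by rw [one_smul]; exact h))
  · obtain ⟨Ψ, hΨ⟩ := exists_iso_minus Q' hab hH hE horth hfin
    refine ⟨conjE Ψ (Der2.mulE F ζ), ?_, ?_⟩
    · intro v
      rw [← coe_minusQ, conjE_apply, hΨ, hX₀, ← hΨ, LinearEquiv.apply_symm_apply]
    · have hiff : ∀ k : ℕ, conjE Ψ (Der2.mulE F ζ) ^ k = 1 ↔ ζ ^ k = 1 := by
        intro k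
        rw [conjE_pow, mulE_pow]
        constructor
        · intro h
          have h1 := LinearEquiv.congr_fun h (Ψ 1)
          rw [conjE_apply, LinearEquiv.symm_apply_apply, Der2.mulE_apply, mul_one] at h1
          have h2 : ((ζ ^ k : (FiniteField.Extension F 2 (2 * (n + 1)))ˣ) :
              FiniteField.Extension F 2 (2 * (n + 1))) = 1 := Ψ.injective h1
          exact Units.ext h2
        · intro h
          rw [h, hmul1]
          apply LinearEquiv.ext
          intro w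
          rw [conjE_apply]
          show Ψ (Ψ.symm w) = w
          rw [LinearEquiv.apply_symm_apply]
      rw [← hA, ← hζord]
      apply Nat.dvd_antisymm
      · apply orderOf_dvd_of_pow_eq_one
        rw [hiff]
        exact pow_orderOf_eq_one ζ
      · apply orderOf_dvd_of_pow_eq_one
        rw [← hiff]
        exact pow_orderOf_eq_one _

end Cfsg.Agent.Lib.Helper43.S8MBL
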