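import Mathlib
import Cfsg.Agent.Lib.Helper44.SMStmt

set_option autoImplicit false

/-! Piece S2721/NOFIX: if an isometry `s` of odd order fixes no nonzero vector, every similarity
commuting with `s` has `det = mu ^ k`. -/

namespace Cfsg.Agent.Lib.Helper43.SMNOFIX

open Matrix
open Cfsg.Agent.Lib.Helper44.QSpace Cfsg.Agent.Lib.Helper44.OGroup Cfsg.Agent.Lib.Helper44.OMat
open Cfsg.Agent.Lib.Helper45.OmegaAut Cfsg.Agent.Lib.Helper45.OmegaAutPsi
open Cfsg.Agent.Lib.Helper45.OmegaAutMain Cfsg.Agent.Lib.Helper45.OmegaInndiag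

universe u

variable {F : Type u} [Field F] {ι : Type} [Fintype ι] [DecidableEq ι]

/-- The Gram matrix of the polar form. -/
noncomputable def gram (Q : QuadraticForm F (ι → F)) : Matrix ι ι F :=
  LinearMap.BilinForm.toMatrix' (QuadraticMap.polarBilin Q)

theorem gram_sim (Q : QuadraticForm F (ι → F)) {M : Matrix ι ι F} {c : F}
    (hc : ∀ v, Q (M *ᵥ v) = c * Q v) : Mᵀ * gram Q * M = c • gram Q := by
  have hB : LinearMap.BilinForm.comp (QuadraticMap.polarBilin Q) (Matrix.toLin' M)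
      (Matrix.toLin' M) = c • QuadraticMap.polarBilin Q := by
    apply LinearMap.ext
    intro x
    apply LinearMap.ext
    intro y
    show QuadraticMap.polar Q (Matrix.toLin' M x) (Matrix.toLin' M y)
      = c * QuadraticMap.polar Q x y
    rw [Matrix.toLin'_apply, Matrix.toLin'_apply]
    exact Cfsg.Agent.Lib.Helper45.OmegaAutKer.polar_sim Q hc x y
  have h1 := congrArg LinearMap.BilinForm.toMatrix' hB
  rw [LinearMap.BilinForm.toMatrix'_comp, LinearMap.toMatrix'_toLin', map_smul] at h1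
  exact h1

theorem gram_transpose (Q : QuadraticForm F (ι → F)) : (gram Q)ᵀ = gram Q := by
  ext i j
  rw [Matrix.transpose_apply]
  unfold gram
  rw [LinearMap.BilinForm.toMatrix'_apply, LinearMap.BilinForm.toMatrix'_apply]
  show QuadraticMap.polar Q _ _ = QuadraticMap.polar Q _ _
  exact QuadraticMap.polar_comm _ _ _

theorem gram_det (Q : QuadraticForm F (ι → F)) (hS : Sep Q) : (gram Q).det ≠ 0 := by
  unfold gram
  rw [← Matrix.nondegenerate_iff_det_ne_zero]
  exact LinearMap.BilinForm.nondegenerate_toMatrix'_iff.mpr (nondegenerate_of_sep hS)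

theorem det_ne_zero_of_inj {M : Matrix ι ι F} (h : ∀ v, M *ᵥ v = 0 → v = 0) : M.det ≠ 0 := by
  intro h0
  obtain ⟨v, hv, hMv⟩ := Matrix.exists_mulVec_eq_zero_iff.mpr h0
  exact hv (h v hMv)

theorem pow_mulVec_neg {S : Matrix ι ι F} {v : ι → F} (h : S *ᵥ v = -v) (n : ℕ) :
    (S ^ n) *ᵥ v = (-1 : F) ^ n • v := by
  induction n with
  | zero => rw [pow_zero, Matrix.one_mulVec, pow_zero, one_smul]
  | succ n ih =>
    rw [pow_succ, ← Matrix.mulVec_mulVec, h, Matrix.mulVec_neg, ih, pow_succ, mul_neg, mul_one,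
      neg_smul]

/-- The matrix core. -/
theorem core (hA : Cfsg.Agent.Lib.Helper44.SMStmt.AltSimDet.{u}) (h2 : (2 : F) ≠ 0)
    {B S T D : Matrix ι ι F} {ν : F} {k r : ℕ} (hk : Fintype.card ι = 2 * k)
    (hBT : Bᵀ = B) (hBdet : B.det ≠ 0) (hST : S * T = 1) (hTS : T * S = 1)
    (hSB : Sᵀ * B * S = B) (hDB : Dᵀ * B * D = ν • B) (hν : ν ≠ 0) (hDS : D * S = S * D)
    (hr : Odd r) (hSr : S ^ r = 1) (hfix : ∀ v, S *ᵥ v = v → v = 0) : D.det = ν ^ k := by
  -- `Sᵀ B = B T` and `Tᵀ B = B S`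
  have h1 : Sᵀ * B = B * T := by
    calc Sᵀ * B = Sᵀ * B * (S * T) := by rw [hST, mul_one]
      _ = (Sᵀ * B * S) * T := by rw [mul_assoc, mul_assoc, mul_assoc]
      _ = B * T := by rw [hSB]
  have h3 : Tᵀ * Sᵀ = 1 := by rw [← Matrix.transpose_mul, hST, Matrix.transpose_one]
  have h4 : Tᵀ * B = B * S := by
    calc Tᵀ * B = Tᵀ * (Sᵀ * B * S) := by rw [hSB]
      _ = (Tᵀ * Sᵀ) * B * S := by rw [mul_assoc, mul_assoc, mul_assoc]
      _ = B * S := by rw [h3, one_mul]
  have hDT : D * T = T * D := by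
    calc D * T = (T * S) * (D * T) := by rw [hTS, one_mul]
      _ = T * (S * D) * T := by rw [mul_assoc, mul_assoc, mul_assoc]
      _ = T * (D * S) * T := by rw [hDS]
      _ = T * D * (S * T) := by rw [mul_assoc, mul_assoc, mul_assoc]
      _ = T * D := by rw [hST, mul_one]
  have hAT : (B * (S - T))ᵀ = -(B * (S - T)) := by
    rw [Matrix.transpose_mul, Matrix.transpose_sub, hBT, Matrix.sub_mul, h1, h4, Matrix.mul_sub,
      neg_sub]
  have hDA : Dᵀ * (B * (S - T)) * D = ν • (B * (S - T)) := by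
    calc Dᵀ * (B * (S - T)) * D = Dᵀ * B * ((S - T) * D) := by
          rw [mul_assoc, mul_assoc, mul_assoc]
      _ = Dᵀ * B * (D * (S - T)) := by
          rw [Matrix.sub_mul, Matrix.mul_sub (M := D), hDS, hDT]
      _ = (Dᵀ * B * D) * (S - T) := by rw [mul_assoc, mul_assoc, mul_assoc]
      _ = ν • (B * (S - T)) := by rw [hDB, Matrix.smul_mul]
  have hT : T.det ≠ 0 := by
    intro h0
    have h5 := congrArg Matrix.det hST
    rw [Matrix.det_mul, h0, mul_zero, Matrix.det_one] at h5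
    exact zero_ne_one h5
  have hS1 : (S - 1).det ≠ 0 := by
    apply det_ne_zero_of_inj
    intro v hv
    apply hfix
    rw [Matrix.sub_mulVec, Matrix.one_mulVec, sub_eq_zero] at hv
    exact hv
  have hS2 : (S + 1).det ≠ 0 := by
    apply det_ne_zero_of_inj
    intro v hv
    rw [Matrix.add_mulVec, Matrix.one_mulVec, add_eq_zero_iff_eq_neg] at hv
    have h5 := pow_mulVec_neg hv r
    rw [hSr, Matrix.one_mulVec, hr.neg_one_pow, neg_smul, one_smul] at h5
    have h6 : (2 : F) • v = 0 := by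
      rw [two_smul]
      nth_rewrite 1 [h5]
      exact neg_add_cancel v
    rcases smul_eq_zero.mp h6 with h | h
    · exact absurd h h2
    · exact h
  have hfac : S - T = T * ((S - 1) * (S + 1)) := by
    have h5 : (S - 1) * (S + 1) = S * S - 1 := by
      rw [Matrix.sub_mul, Matrix.mul_add, Matrix.mul_add, mul_one, one_mul, mul_one]
      abel
    rw [h5, Matrix.mul_sub, ← mul_assoc, hTS, one_mul, mul_one]
  have hdet : (B * (S - T)).det ≠ 0 := by
    rw [Matrix.det_mul, hfac, Matrix.det_mul, Matrix.det_mul]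
    exact mul_ne_zero hBdet (mul_ne_zero hT (mul_ne_zero hS1 hS2))
  exact hA F ι (B * (S - T)) D ν k h2 hAT hdet hν hk hDA

theorem main : Cfsg.Agent.Lib.Helper44.SMStmt.AltSimDet.{u} →
    Cfsg.Agent.Lib.Helper44.SMStmt.NoFixDet.{u} := by
  intro hA F _ _ ι _ _ Q h2 hS k hk v₀ hv₀ s δ hs r hodd hsr hfix hcomm
  have hSB : (((s : GL ι F) : Matrix ι ι F))ᵀ * gram Q * ((s : GL ι F) : Matrix ι ι F)
      = gram Q := by
    have h1 := gram_sim Q (M := ((s : GL ι F) : Matrix ι ι F)) (c := 1) (fun v => by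
      rw [one_mul]; exact (mem_iso_iff' _ _).mp hs v)
    rw [one_smul] at h1
    exact h1
  have hDB : (((δ : GL ι F) : Matrix ι ι F))ᵀ * gram Q * ((δ : GL ι F) : Matrix ι ι F)
      = (mu Q δ : F) • gram Q := gram_sim Q (mu_spec Q δ)
  have hST : ((s : GL ι F) : Matrix ι ι F) * (((s : GL ι F)⁻¹ : GL ι F) : Matrix ι ι F) = 1 := by
    rw [← Units.val_mul, mul_inv_cancel, Units.val_one]
  have hTS : (((s : GL ι F)⁻¹ : GL ι F) : Matrix ι ι F) * ((s : GL ι F) : Matrix ι ι F) = 1 := by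
    rw [← Units.val_mul, inv_mul_cancel, Units.val_one]
  have hDS : ((δ : GL ι F) : Matrix ι ι F) * ((s : GL ι F) : Matrix ι ι F)
      = ((s : GL ι F) : Matrix ι ι F) * ((δ : GL ι F) : Matrix ι ι F) := by
    have h1 := congrArg (fun t : ↥(Cfsg.Geo.quadSimilarityGroup (F := F) ⇑Q) =>
      ((t : GL ι F) : Matrix ι ι F)) hcomm
    simp only [Subgroup.coe_mul, Units.val_mul] at h1
    exact h1
  have hSr : ((s : GL ι F) : Matrix ι ι F) ^ r = 1 := by
    have h1 := congrArg (fun t : ↥(Cfsg.Geo.quadSimilarityGroup (F := F) ⇑Q) =>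
      ((t : GL ι F) : Matrix ι ι F)) hsr
    simp only [Subgroup.coe_pow, Units.val_pow_eq_pow_val, Subgroup.coe_one, Units.val_one] at h1
    exact h1
  have hdet := core hA h2 hk (gram_transpose Q) (gram_det Q hS) hST hTS hSB hDB (mu Q δ).ne_zero
    hDS hodd hSr hfix
  apply Units.ext
  rw [dl_apply, Units.val_mul, Units.val_pow_eq_pow_val, Units.val_inv_eq_inv_val,
    Matrix.GeneralLinearGroup.val_det_apply, hdet, Units.val_one, inv_pow]
  exact mul_inv_cancel₀ (pow_ne_zero _ (mu Q δ).ne_zero)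

end Cfsg.Agent.Lib.Helper43.SMNOFIX
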