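import Mathlib
import Cfsg.Agent.Lib.Helper43.SpBasic
import Cfsg.Agent.Lib.Helper43.PSLnRoot
import Cfsg.Agent.Lib.Helper5.SpCard

set_option autoImplicit false

namespace Cfsg.Agent.Lib.Helper43.SpSylow

open Matrix Cfsg.Agent.Lib.Helper13.SympMat Cfsg.Agent.Lib.Helper43.SpBasic
  Cfsg.Agent.Lib.Helper43.PSLnUT

variable {F : Type*} [Field F] {m : ℕ}

theorem toBlocks₂₁_mul (A B : Matrix (Fin m ⊕ Fin m) (Fin m ⊕ Fin m) F) :
    (A * B).toBlocks₂₁ = A.toBlocks₂₁ * B.toBlocks₁₁ + A.toBlocks₂₂ * B.toBlocks₂₁ := by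
  conv_lhs => rw [← fromBlocks_toBlocks A, ← fromBlocks_toBlocks B, fromBlocks_multiply,
    toBlocks_fromBlocks₂₁]

theorem toBlocks₁₁_mul (A B : Matrix (Fin m ⊕ Fin m) (Fin m ⊕ Fin m) F) :
    (A * B).toBlocks₁₁ = A.toBlocks₁₁ * B.toBlocks₁₁ + A.toBlocks₁₂ * B.toBlocks₂₁ := by
  conv_lhs => rw [← fromBlocks_toBlocks A, ← fromBlocks_toBlocks B, fromBlocks_multiply,
    toBlocks_fromBlocks₁₁]

theorem toBlocks₂₁_one : (1 : Matrix (Fin m ⊕ Fin m) (Fin m ⊕ Fin m) F).toBlocks₂₁ = 0 := by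
  rw [← fromBlocks_one, toBlocks_fromBlocks₂₁]

theorem toBlocks₁₁_one : (1 : Matrix (Fin m ⊕ Fin m) (Fin m ⊕ Fin m) F).toBlocks₁₁ = 1 := by
  rw [← fromBlocks_one, toBlocks_fromBlocks₁₁]

/-- the submonoid of block upper unitriangular symplectic matrices -/
def Umon : Submonoid (Matrix.symplecticGroup (Fin m) F) where
  carrier := {A | (A : Matrix (Fin m ⊕ Fin m) (Fin m ⊕ Fin m) F).toBlocks₂₁ = 0 ∧
    IsUT (A : Matrix (Fin m ⊕ Fin m) (Fin m ⊕ Fin m) F).toBlocks₁₁}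
  mul_mem' := by
    intro A B hA hB
    refine ⟨?_, ?_⟩
    · show ((A * B : Matrix.symplecticGroup (Fin m) F) :
        Matrix (Fin m ⊕ Fin m) (Fin m ⊕ Fin m) F).toBlocks₂₁ = 0
      rw [Submonoid.coe_mul, toBlocks₂₁_mul, hA.1, hB.1, zero_mul, mul_zero, add_zero]
    · show IsUT ((A * B : Matrix.symplecticGroup (Fin m) F) :
        Matrix (Fin m ⊕ Fin m) (Fin m ⊕ Fin m) F).toBlocks₁₁
      rw [Submonoid.coe_mul, toBlocks₁₁_mul, hB.1, mul_zero, add_zero]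
      exact IsUT.mul hA.2 hB.2
  one_mem' := by
    refine ⟨?_, ?_⟩
    · show ((1 : Matrix.symplecticGroup (Fin m) F) :
        Matrix (Fin m ⊕ Fin m) (Fin m ⊕ Fin m) F).toBlocks₂₁ = 0
      rw [Submonoid.coe_one, toBlocks₂₁_one]
    · show IsUT ((1 : Matrix.symplecticGroup (Fin m) F) :
        Matrix (Fin m ⊕ Fin m) (Fin m ⊕ Fin m) F).toBlocks₁₁
      rw [Submonoid.coe_one, toBlocks₁₁_one]
      exact isUT_one

/-- the subgroup of block upper unitriangular symplectic matrices -/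
def U [Finite F] : Subgroup (Matrix.symplecticGroup (Fin m) F) :=
  { Umon with
    inv_mem' := by
      intro s hs
      have hpos : 0 < orderOf s := orderOf_pos s
      have h1 : s⁻¹ = s ^ (orderOf s - 1) := by
        apply inv_eq_of_mul_eq_one_right
        rw [← pow_succ', Nat.sub_add_cancel hpos, pow_orderOf_eq_one]
      rw [h1]
      exact Umon.pow_mem hs _ }

theorem mem_U [Finite F] (A : Matrix.symplecticGroup (Fin m) F) :
    A ∈ U ↔ (A : Matrix (Fin m ⊕ Fin m) (Fin m ⊕ Fin m) F).toBlocks₂₁ = 0 ∧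
      IsUT (A : Matrix (Fin m ⊕ Fin m) (Fin m ⊕ Fin m) F).toBlocks₁₁ := Iff.rfl

/-- the block structure of an element of `U` -/
theorem blocks [Finite F] {A : Matrix.symplecticGroup (Fin m) F} (hA : A ∈ U) :
    (A : Matrix (Fin m ⊕ Fin m) (Fin m ⊕ Fin m) F) =
      fromBlocks (A : Matrix (Fin m ⊕ Fin m) (Fin m ⊕ Fin m) F).toBlocks₁₁
        (A : Matrix (Fin m ⊕ Fin m) (Fin m ⊕ Fin m) F).toBlocks₁₂ 0
        (A : Matrix (Fin m ⊕ Fin m) (Fin m ⊕ Fin m) F).toBlocks₂₂ ∧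
    ((A : Matrix (Fin m ⊕ Fin m) (Fin m ⊕ Fin m) F).toBlocks₁₁)ᵀ *
      (A : Matrix (Fin m ⊕ Fin m) (Fin m ⊕ Fin m) F).toBlocks₂₂ = 1 ∧
    ((A : Matrix (Fin m ⊕ Fin m) (Fin m ⊕ Fin m) F).toBlocks₁₂)ᵀ *
      (A : Matrix (Fin m ⊕ Fin m) (Fin m ⊕ Fin m) F).toBlocks₂₂ =
      ((A : Matrix (Fin m ⊕ Fin m) (Fin m ⊕ Fin m) F).toBlocks₂₂)ᵀ *
        (A : Matrix (Fin m ⊕ Fin m) (Fin m ⊕ Fin m) F).toBlocks₁₂ := by
  have h1 : (A : Matrix (Fin m ⊕ Fin m) (Fin m ⊕ Fin m) F) =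
      fromBlocks (A : Matrix (Fin m ⊕ Fin m) (Fin m ⊕ Fin m) F).toBlocks₁₁
        (A : Matrix (Fin m ⊕ Fin m) (Fin m ⊕ Fin m) F).toBlocks₁₂ 0
        (A : Matrix (Fin m ⊕ Fin m) (Fin m ⊕ Fin m) F).toBlocks₂₂ := by
    conv_lhs => rw [← fromBlocks_toBlocks (A : Matrix (Fin m ⊕ Fin m) (Fin m ⊕ Fin m) F), hA.1]
  have h2 := A.2
  rw [h1, SymplecticGroup.fromBlocks_mem_iff] at h2
  refine ⟨h1, ?_, h2.2.1⟩
  have h3 := h2.2.2
  rw [Matrix.transpose_zero, zero_mul, sub_zero] at h3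
  exact h3

/-- the matrix with upper-left block `a` and symmetric datum `s` -/
noncomputable def mkMat (a s : Matrix (Fin m) (Fin m) F) : Matrix (Fin m ⊕ Fin m) (Fin m ⊕ Fin m) F :=
  fromBlocks a (s * (aᵀ)⁻¹) 0 (aᵀ)⁻¹

theorem mkMat_mem {a s : Matrix (Fin m) (Fin m) F} (ha : IsUnit a.det) (hs : s.IsSymm) :
    mkMat a s ∈ Matrix.symplecticGroup (Fin m) F := by
  rw [mkMat, SymplecticGroup.fromBlocks_mem_iff]
  refine ⟨by simp, ?_, ?_⟩
  · rw [Matrix.transpose_mul, hs.eq, mul_assoc]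
  · rw [Matrix.mul_nonsing_inv _ (by rwa [Matrix.det_transpose])]
    simp

/-- the element of `U` with upper-left block `a` and symmetric datum `s` -/
noncomputable def mk [Finite F] (a s : Matrix (Fin m) (Fin m) F) (ha : IsUT a) (hs : s.IsSymm) :
    Matrix.symplecticGroup (Fin m) F :=
  ⟨mkMat a s, mkMat_mem (by rw [ha.det]; exact isUnit_one) hs⟩

theorem mk_mem [Finite F] (a s : Matrix (Fin m) (Fin m) F) (ha : IsUT a) (hs : s.IsSymm) :
    mk a s ha hs ∈ U := by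
  rw [mem_U]
  refine ⟨?_, ?_⟩
  · show (mkMat a s).toBlocks₂₁ = 0
    rw [mkMat, toBlocks_fromBlocks₂₁]
  · show IsUT (mkMat a s).toBlocks₁₁
    rw [mkMat, toBlocks_fromBlocks₁₁]
    exact ha

theorem symm_of_mem [Finite F] {A : Matrix.symplecticGroup (Fin m) F} (hA : A ∈ U) :
    ((A : Matrix (Fin m ⊕ Fin m) (Fin m ⊕ Fin m) F).toBlocks₁₂ *
      ((A : Matrix (Fin m ⊕ Fin m) (Fin m ⊕ Fin m) F).toBlocks₁₁)ᵀ).IsSymm := by
  obtain ⟨-, h1, h2⟩ := blocks hA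
  set a := (A : Matrix (Fin m ⊕ Fin m) (Fin m ⊕ Fin m) F).toBlocks₁₁
  set b := (A : Matrix (Fin m ⊕ Fin m) (Fin m ⊕ Fin m) F).toBlocks₁₂
  set d := (A : Matrix (Fin m ⊕ Fin m) (Fin m ⊕ Fin m) F).toBlocks₂₂
  have h3 : d * aᵀ = 1 := _root_.mul_eq_one_comm.1 h1
  have h4 : a * dᵀ = 1 := by
    have := congrArg Matrix.transpose h3
    rwa [Matrix.transpose_mul, Matrix.transpose_transpose, Matrix.transpose_one] at this
  show (b * aᵀ)ᵀ = b * aᵀ
  rw [Matrix.transpose_mul, Matrix.transpose_transpose]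
  calc a * bᵀ = a * (bᵀ * d) * aᵀ := by
        rw [mul_assoc, mul_assoc, h3, mul_one]
    _ = a * (dᵀ * b) * aᵀ := by rw [h2]
    _ = b * aᵀ := by rw [← mul_assoc, h4, one_mul]

/-- `U` is in bijection with pairs (unitriangular, symmetric) -/
noncomputable def equivU [Finite F] : ↥(U : Subgroup (Matrix.symplecticGroup (Fin m) F)) ≃
    {a : Matrix (Fin m) (Fin m) F // IsUT a} × {s : Matrix (Fin m) (Fin m) F // s.IsSymm} where
  toFun A := (⟨_, A.2.2⟩, ⟨_, symm_of_mem A.2⟩)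
  invFun x := ⟨mk x.1.1 x.2.1 x.1.2 x.2.2, mk_mem _ _ _ _⟩
  left_inv := by
    rintro ⟨A, hA⟩
    apply Subtype.ext
    apply Subtype.ext
    obtain ⟨h0, h1, h2⟩ := blocks hA
    show mkMat _ _ = (A : Matrix (Fin m ⊕ Fin m) (Fin m ⊕ Fin m) F)
    conv_rhs => rw [h0]
    rw [mkMat, Matrix.inv_eq_right_inv h1, mul_assoc, h1, mul_one]
  right_inv := by
    rintro ⟨⟨a, ha⟩, ⟨s, hs⟩⟩
    have hdet : IsUnit (aᵀ).det := by
      rw [Matrix.det_transpose, ha.det]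
      exact isUnit_one
    apply Prod.ext
    · apply Subtype.ext
      show (mkMat a s).toBlocks₁₁ = a
      rw [mkMat, toBlocks_fromBlocks₁₁]
    · apply Subtype.ext
      show (mkMat a s).toBlocks₁₂ * ((mkMat a s).toBlocks₁₁)ᵀ = s
      rw [mkMat, toBlocks_fromBlocks₁₁, toBlocks_fromBlocks₁₂,
        Matrix.nonsing_inv_mul_cancel_right _ _ hdet]

/-- unitriangular matrices correspond to the unitriangular subgroup of `SL` -/
def equivUT [Finite F] : {a : Matrix (Fin m) (Fin m) F // IsUT a} ≃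
    ↥(Cfsg.Agent.Lib.Helper43.PSLnUT.U : Subgroup (Matrix.SpecialLinearGroup (Fin m) F)) where
  toFun a := ⟨⟨a.1, a.2.det⟩, a.2⟩
  invFun s := ⟨s.1.1, s.2⟩
  left_inv _ := rfl
  right_inv _ := rfl

/-- symmetric matrices correspond to families of entries on and above the diagonal -/
def equivSymm : {s : Matrix (Fin m) (Fin m) F // s.IsSymm} ≃ ((j : Fin m) → Fin ((j : ℕ) + 1) → F) where
  toFun s := fun j i => s.1 ⟨i, lt_of_lt_of_le i.2 j.2⟩ j
  invFun g := ⟨Matrix.of fun i j => if h : (i : ℕ) ≤ (j : ℕ) then g j ⟨i, Nat.lt_succ_of_le h⟩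
      else g i ⟨j, Nat.lt_succ_of_le (le_of_lt (not_le.1 h))⟩, by
    ext i j
    simp only [Matrix.transpose_apply, Matrix.of_apply]
    by_cases h1 : (i : ℕ) ≤ (j : ℕ)
    · by_cases h2 : (j : ℕ) ≤ (i : ℕ)
      · have : i = j := Fin.ext (le_antisymm h1 h2)
        subst this
        rfl
      · rw [dif_pos h1, dif_neg h2]
    · have h2 : (j : ℕ) ≤ (i : ℕ) := le_of_lt (not_le.1 h1)
      rw [dif_neg h1, dif_pos h2]⟩
  left_inv := by
    rintro ⟨s, hs⟩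
    apply Subtype.ext
    ext i j
    simp only [Matrix.of_apply]
    by_cases h1 : (i : ℕ) ≤ (j : ℕ)
    · rw [dif_pos h1]
    · rw [dif_neg h1]
      exact hs.apply i j
  right_inv := by
    intro g
    funext j i
    simp only [Matrix.of_apply]
    have h1 : (i : ℕ) ≤ (j : ℕ) := Nat.le_of_lt_succ i.2
    rw [dif_pos h1]

theorem card_symm [Fintype F] :
    Nat.card {s : Matrix (Fin m) (Fin m) F // s.IsSymm} =
      ∏ j : Fin m, Fintype.card F ^ ((j : ℕ) + 1) := by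
  classical
  rw [Nat.card_congr equivSymm, Nat.card_eq_fintype_card, Fintype.card_pi]
  apply Finset.prod_congr rfl
  intro j _
  rw [Fintype.card_fun, Fintype.card_fin]

theorem sum_odd (m : ℕ) : ∑ j : Fin m, ((j : ℕ) + ((j : ℕ) + 1)) = m ^ 2 := by
  rw [Fin.sum_univ_eq_sum_range (fun j => j + (j + 1)) m]
  induction m with
  | zero => simp
  | succ k ih =>
    rw [Finset.sum_range_succ, ih]
    ring

theorem card_U [Fintype F] :
    Nat.card (U : Subgroup (Matrix.symplecticGroup (Fin m) F)) = Fintype.card F ^ (m ^ 2) := by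
  rw [Nat.card_congr equivU, Nat.card_prod, Nat.card_congr equivUT,
    Cfsg.Agent.Lib.Helper43.PSLnUT.card_U, card_symm, ← Finset.prod_mul_distrib]
  simp_rw [← pow_add]
  rw [Finset.prod_pow_eq_pow_sum, sum_odd]

theorem mulVec_e0 [Finite F] (hm : 1 ≤ m) {A : Matrix.symplecticGroup (Fin m) F} (hA : A ∈ U) :
    (A : Matrix (Fin m ⊕ Fin m) (Fin m ⊕ Fin m) F) *ᵥ e ⟨0, hm⟩ = e ⟨0, hm⟩ := by
  show (A : Matrix (Fin m ⊕ Fin m) (Fin m ⊕ Fin m) F) *ᵥ Pi.single (Sum.inl ⟨0, hm⟩) 1 = _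
  rw [Matrix.mulVec_single_one]
  funext k
  rcases k with i | i
  · show (A : Matrix (Fin m ⊕ Fin m) (Fin m ⊕ Fin m) F).toBlocks₁₁ i ⟨0, hm⟩ = _
    rw [e_apply_inl]
    by_cases h : i = ⟨0, hm⟩
    · rw [if_pos h, h]
      exact hA.2.2 _
    · rw [if_neg h]
      apply hA.2.1
      rw [Fin.lt_def]
      have : (i : ℕ) ≠ 0 := fun h0 => h (Fin.ext h0)
      show 0 < (i : ℕ)
      omega
  · show (A : Matrix (Fin m ⊕ Fin m) (Fin m ⊕ Fin m) F).toBlocks₂₁ i ⟨0, hm⟩ = _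
    rw [hA.1, e_apply_inr]
    rfl

theorem pr_injOn_U [Finite F] (hm : 1 ≤ m) {A B : Matrix.symplecticGroup (Fin m) F}
    (hA : A ∈ U) (hB : B ∈ U) (h : pr A = pr B) : A = B := by
  obtain ⟨a, -, h1⟩ := exists_scalar_of_pr_eq hm h
  have h2 := congrArg (fun M : Matrix (Fin m ⊕ Fin m) (Fin m ⊕ Fin m) F => M *ᵥ e ⟨0, hm⟩) h1
  simp only [Matrix.smul_mulVec, mulVec_e0 hm hA, mulVec_e0 hm hB] at h2
  have h3 := congrFun h2 (Sum.inl ⟨0, hm⟩)
  rw [Pi.smul_apply, e_apply_inl, if_pos rfl, smul_eq_mul, mul_one] at h3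
  apply Subtype.ext
  rw [h1, ← h3, one_smul]

/-- the image of `U` in `PSp` -/
def PU [Finite F] : Subgroup (Cfsg.PSp m F) := U.map pr

theorem card_PU [Fintype F] (hm : 1 ≤ m) :
    Nat.card (PU : Subgroup (Cfsg.PSp m F)) = Fintype.card F ^ (m ^ 2) := by
  rw [← card_U]
  symm
  apply Nat.card_congr
  refine Equiv.ofBijective (fun s => ⟨pr s.1, Subgroup.mem_map_of_mem _ s.2⟩) ⟨?_, ?_⟩
  · intro s t hst
    exact Subtype.ext (pr_injOn_U hm s.2 t.2 (congrArg Subtype.val hst))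
  · rintro ⟨_, s, hs, rfl⟩
    exact ⟨⟨s, hs⟩, rfl⟩

theorem not_dvd_index [Fintype F] {p f : ℕ} [Fact p.Prime] (hf : 1 ≤ f)
    (hF : Fintype.card F = p ^ f) (hm : 1 ≤ m) :
    ¬ p ∣ (PU : Subgroup (Cfsg.PSp m F)).index := by
  intro hdvd
  have hp : p.Prime := Fact.out
  have hq : 2 ≤ Fintype.card F := Fintype.one_lt_card
  have h1 := Subgroup.index_mul_card (PU : Subgroup (Cfsg.PSp m F))
  rw [card_PU hm] at h1
  have h3 := Subgroup.card_eq_card_quotient_mul_card_subgroup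
    (Subgroup.center (Matrix.symplecticGroup (Fin m) F))
  have h4 : Nat.card (Cfsg.PSp m F) = Nat.card (Matrix.symplecticGroup (Fin m) F ⧸
        Subgroup.center (Matrix.symplecticGroup (Fin m) F)) := rfl
  rw [← h4, ← h1, Cfsg.Agent.Lib.Helper5.SpCard.card_symplectic] at h3
  have hpos : 0 < Fintype.card F ^ (m ^ 2) := pow_pos (by omega) _
  have h7 : (PU : Subgroup (Cfsg.PSp m F)).index *
      Nat.card (Subgroup.center (Matrix.symplecticGroup (Fin m) F)) =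
        ∏ i ∈ Finset.range m, (Fintype.card F ^ (2 * (i + 1)) - 1) := by
    apply Nat.eq_of_mul_eq_mul_left hpos
    rw [h3]
    ring
  have h8 : p ∣ ∏ i ∈ Finset.range m, (Fintype.card F ^ (2 * (i + 1)) - 1) := by
    rw [← h7]
    exact Dvd.dvd.mul_right hdvd _
  rw [(Nat.Prime.prime hp).dvd_finsetProd_iff] at h8
  obtain ⟨i, -, hi⟩ := h8
  have h9 : p ∣ Fintype.card F ^ (2 * (i + 1)) := by
    rw [hF, ← pow_mul]
    exact dvd_pow_self p (by
      have : 1 ≤ f * (2 * (i + 1)) := Nat.mul_pos hf (by omega)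
      omega)
  have h10 : 1 ≤ Fintype.card F ^ (2 * (i + 1)) := Nat.one_le_pow _ _ (by omega)
  have h11 : p ∣ 1 := by
    have h12 := Nat.dvd_sub h9 hi
    rwa [Nat.sub_sub_self h10] at h12
  exact hp.one_lt.ne' (Nat.dvd_one.1 h11)

theorem isPGroup_PU [Fintype F] {p f : ℕ} [Fact p.Prime]
    (hF : Fintype.card F = p ^ f) (hm : 1 ≤ m) :
    IsPGroup p (PU : Subgroup (Cfsg.PSp m F)) := by
  apply IsPGroup.of_card (n := f * m ^ 2)
  rw [card_PU hm, hF, pow_mul]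

/-- the standard Sylow `p`-subgroup of `PSp` -/
noncomputable def P0 [Fintype F] {p f : ℕ} [Fact p.Prime] (hf : 1 ≤ f)
    (hF : Fintype.card F = p ^ f) (hm : 1 ≤ m) : Sylow p (Cfsg.PSp m F) :=
  (isPGroup_PU hF hm).toSylow (not_dvd_index hf hF hm)

theorem P0_coe [Fintype F] {p f : ℕ} [Fact p.Prime] (hf : 1 ≤ f)
    (hF : Fintype.card F = p ^ f) (hm : 1 ≤ m) :
    ((P0 hf hF hm : Sylow p (Cfsg.PSp m F)) : Subgroup (Cfsg.PSp m F)) = PU := rfl

end Cfsg.Agent.Lib.Helper43.SpSylow
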